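import Mathlib
import Cfsg.Agent.H325.Same.BigP

/-!
# `H325.Same.BigP` with slack `p ^ (δ f)` (helper363)

`bigp_e6_9`, `bigp_e6_12`, `bigp_te6_18`, `bigp_te6_12`, `bigp_f4_12`, `bigp_f4_8`, `bigp_e8_24`, `bigp_e8_20`: copies of
the theorems of helper325 (all primes `p`), with the weaker hypothesis `p ^ (N f) ∣ p ^ (δ f) c`, and only the
Zsigmondy primes of the class.
-/

set_option autoImplicit false

namespace Cfsg.Agent.H363.DQ

open Cfsg.Agent.OrdDiv Cfsg.Agent.H436 Cfsg.Agent.H915.GN Cfsg.Agent.H264.GN Cfsg.Agent.H264.FKS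
open Cfsg.Agent.H325.Same hiding bigp_e6_9 bigp_e6_12 bigp_te6_18 bigp_te6_12 bigp_f4_12 bigp_f4_8 bigp_e8_24 bigp_e8_20

variable {p f c : ℕ} {g : Grp}

/-- **The comparison with one class and the `p`-part.** -/
theorem compF {XT : ℕ → Prop} {MT aT e δ f₁ : ℕ} (hp : p.Prime) (hf : 1 ≤ f) (hg : Cond g) (hch : HasChar p g)
    (hf₁ : 1 ≤ f₁) (hfl : fld g = p ^ f₁) (hK : KD p f₁ c (Xg g) (Yg g) (Mg g) (ag g)) (hY : Yg g (Mg g))
    (hc : den g * c = num g) (hT : TD p f c XT MT aT) (h7 : 7 ≤ e) (h2 : MT < 2 * e) (hs' : ∀ s, Prim p (f * e) s → s ∣ c)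
    (hpp : p ^ (f * aT) ∣ p ^ (f * δ) * c) :
    ∃ i, XT i ∧ e ≤ i ∧ f₁ * Mg g = f * i ∧ lam g * i ≤ 2 * aT ∧ 2 * aT ≤ lam g * i + 2 * δ ∧
      (∀ k, Yg g k → 3 ≤ f₁ * k → ¬ (p = 2 ∧ f₁ * k = 6) → ∃ j, XT j ∧ i * k ∣ Mg g * j) := by
  have hM2 := two_le_Mg hg hch
  have hfe : 1 * e ≤ f * e := Nat.mul_le_mul_right _ hf
  have hb := f1_le2 hp hf hT hK hY hM2 h2.le (by omega)
  obtain ⟨i, hi, hei, hfM, ha, -, hYc⟩ := comp2 hp hf hT hK hf₁ h7 h2 hs' hY
  refine ⟨i, hi, hei, hfM, ?_, ?_, hYc⟩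
  · have h5 : Mg g * (lam g * i) ≤ Mg g * (2 * aT) := by
      calc Mg g * (lam g * i) = (lam g * Mg g) * i := by ring
        _ = 2 * (ag g * i) := by rw [← two_ag hch]; ring
        _ ≤ 2 * (aT * Mg g) := Nat.mul_le_mul_left _ ha
        _ = _ := by ring
    exact Nat.le_of_mul_le_mul_left h5 (by omega)
  · -- the `p`-part
    have h5 : f * aT ≤ f₁ * ag g + f * δ := by
      rcases Nat.le_total (f * aT) (f * δ) with h6 | h6
      · omega
      · have h8 : p ^ (f * aT - f * δ) ∣ c := by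
          have h9 : p ^ (f * aT) = p ^ (f * δ) * p ^ (f * aT - f * δ) := by rw [← pow_add]; congr 1; omega
          rw [h9] at hpp
          exact Nat.dvd_of_mul_dvd_mul_left (pow_pos hp.pos _) hpp
        have := pp_all hp hf₁ hg hch hfl hc h8
        omega
    have h6 : f * (Mg g * (2 * aT)) ≤ f * (Mg g * (lam g * i + 2 * δ)) := by
      calc f * (Mg g * (2 * aT)) = 2 * Mg g * (f * aT) := by ring
        _ ≤ 2 * Mg g * (f₁ * ag g + f * δ) := Nat.mul_le_mul_left _ h5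
        _ = (f₁ * Mg g) * (2 * ag g) + f * (2 * Mg g * δ) := by ring
        _ = (f * i) * (lam g * Mg g) + f * (2 * Mg g * δ) := by
            rw [hfM, two_ag hch]
        _ = _ := by ring
    exact Nat.le_of_mul_le_mul_left (Nat.le_of_mul_le_mul_left h6 (by omega)) (by omega)

/-- **`e6`, class 9** -/
theorem bigp_e6_9 (hp : p.Prime) (hf : 1 ≤ f) (hg : Cond g) (hch : HasChar p g)
    (hc : den g * c = num g) (hdvd : c ∣ num (.e6 (p ^ f))) (hs : ∀ s, Prim p (f * 9) s → s ∣ c)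
    (hpp : p ^ (36 * f) ∣ p ^ (3 * f) * c) : g = .e6 (p ^ f) := by
  obtain ⟨f₁, hf₁, hfl, hK, hY⟩ := kd_all hp hg hch hc
  have hT := td_e6 hp hf hdvd
  have hq : 2 ≤ p ^ f := hp.two_le.trans (Nat.le_self_pow (by omega) _)
  obtain ⟨i, hi, hei, hfM, hl1, hl2, hYc⟩ := compF (δ := 3) (e := 9) hp hf hg hch hf₁ hfl hK hY hc hT (by norm_num)
    (by norm_num) hs (by rwa [mul_comm f, mul_comm f])
  have hi' : i ∈ [2, 5, 6, 8, 9, 12] := hi
  simp only [List.mem_cons, List.not_mem_nil, or_false] at hi'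
  have key : (i = 9 ∧ lam g = 8) ∨ (i = 12 ∧ lam g = 6) := by
    rcases hi' with rfl | rfl | rfl | rfl | rfl | rfl <;> omega
  clear hi hi' hei hl1 hl2
  rcases key with ⟨rfl, hL⟩ | ⟨rfl, hL⟩
  · rcases cases_lam hg hch hL (by norm_num) with ⟨q, rfl⟩ | ⟨q, rfl⟩ | ⟨q, rfl⟩ | ⟨q, rfl⟩ | ⟨q, rfl⟩ | ⟨q, rfl⟩ | ⟨q, rfl⟩ |
      ⟨h0, q, rfl⟩ | ⟨h0, q, rfl⟩ | ⟨h0, q, rfl⟩ | ⟨h0, q, rfl⟩ | ⟨h0, q, rfl⟩
    · exfalso
      have h5 : f₁ * 9 = f * 9 := hfM
      obtain ⟨j, hj, hd⟩ := hYc 7 ⟨by norm_num, by norm_num⟩ (by omega) (by omega)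
      have hd' : 63 ∣ 9 * j := hd
      have hj' : j ∈ [2, 5, 6, 8, 9, 12] := hj
      simp only [List.mem_cons, List.not_mem_nil, or_false] at hj'
      omega
    · exfalso
      have h5 : f₁ * 16 = f * 9 := hfM
      obtain ⟨j, hj, hd⟩ := hYc 10 ⟨by norm_num, by norm_num, by norm_num⟩ (by omega) (by omega)
      have hd' : 90 ∣ 16 * j := hd
      have hj' : j ∈ [2, 5, 6, 8, 9, 12] := hj
      simp only [List.mem_cons, List.not_mem_nil, or_false] at hj'
      omega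
    · exfalso
      have h5 : f₁ * 16 = f * 9 := hfM
      obtain ⟨j, hj, hd⟩ := hYc 10 ⟨by norm_num, by norm_num, by norm_num⟩ (by omega) (by omega)
      have hd' : 90 ∣ 16 * j := hd
      have hj' : j ∈ [2, 5, 6, 8, 9, 12] := hj
      simp only [List.mem_cons, List.not_mem_nil, or_false] at hj'
      omega
    · exfalso
      have h5 : f₁ * 14 = f * 9 := hfM
      obtain ⟨j, hj, hd⟩ := hYc 4 ⟨by norm_num, by norm_num, by norm_num⟩ (by omega) (by omega)
      have hd' : 36 ∣ 14 * j := hd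
      have hj' : j ∈ [2, 5, 6, 8, 9, 12] := hj
      simp only [List.mem_cons, List.not_mem_nil, or_false] at hj'
      omega
    · exfalso
      have h5 : f₁ * 18 = f * 9 := hfM
      obtain ⟨j, hj, hd⟩ := hYc 14 ⟨by norm_num, by norm_num, by norm_num⟩ (by omega) (by omega)
      have hd' : 126 ∣ 18 * j := hd
      have hj' : j ∈ [2, 5, 6, 8, 9, 12] := hj
      simp only [List.mem_cons, List.not_mem_nil, or_false] at hj'
      omega
    · exfalso
      have h5 : f₁ * 30 = f * 9 := hfM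
      obtain ⟨j, hj, hd⟩ := hYc 12 ⟨by norm_num, Or.inl ⟨by norm_num, by norm_num⟩⟩ (by omega) (by omega)
      have hd' : 108 ∣ 30 * j := hd
      have hj' : j ∈ [2, 5, 6, 8, 9, 12] := hj
      simp only [List.mem_cons, List.not_mem_nil, or_false] at hj'
      omega
    · exfalso
      have h5 : f₁ * 34 = f * 9 := hfM
      obtain ⟨j, hj, hd⟩ := hYc 4 ⟨by norm_num, Or.inl ⟨by norm_num, by norm_num⟩⟩ (by omega) (by omega)
      have hd' : 36 ∣ 34 * j := hd
      have hj' : j ∈ [2, 5, 6, 8, 9, 12] := hj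
      simp only [List.mem_cons, List.not_mem_nil, or_false] at hj'
      omega
    · exact absurd h0 (by norm_num)
    · exact absurd h0 (by norm_num)
    · exact absurd h0 (by norm_num)
    · exact absurd h0 (by norm_num)
    · exfalso
      have h5 : f₁ * 30 = f * 9 := hfM
      obtain ⟨j, hj, hd⟩ := hYc 7 (by decide : 7 ∈ [2, 3, 4, 5, 6, 7, 8, 9, 10, 12, 14, 15, 18, 20, 24, 30]) (by omega) (by omega)
      have hd' : 63 ∣ 30 * j := hd
      have hj' : j ∈ [2, 5, 6, 8, 9, 12] := hj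
      simp only [List.mem_cons, List.not_mem_nil, or_false] at hj'
      omega
  · rcases cases_lam hg hch hL (by norm_num) with ⟨q, rfl⟩ | ⟨q, rfl⟩ | ⟨q, rfl⟩ | ⟨q, rfl⟩ | ⟨q, rfl⟩ | ⟨q, rfl⟩ | ⟨q, rfl⟩ |
      ⟨h0, q, rfl⟩ | ⟨h0, q, rfl⟩ | ⟨h0, q, rfl⟩ | ⟨h0, q, rfl⟩ | ⟨h0, q, rfl⟩
    · exfalso
      have h5 : f₁ * 7 = f * 12 := hfM
      obtain ⟨j, hj, hd⟩ := hYc 4 ⟨by norm_num, by norm_num⟩ (by omega) (by omega)
      have hd' : 48 ∣ 7 * j := hd
      have hj' : j ∈ [2, 5, 6, 8, 9, 12] := hj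
      simp only [List.mem_cons, List.not_mem_nil, or_false] at hj'
      omega
    · exfalso
      have h5 : f₁ * 12 = f * 12 := hfM
      obtain ⟨j, hj, hd⟩ := hYc 10 ⟨by norm_num, by norm_num, by norm_num⟩ (by omega) (by omega)
      have hd' : 120 ∣ 12 * j := hd
      have hj' : j ∈ [2, 5, 6, 8, 9, 12] := hj
      simp only [List.mem_cons, List.not_mem_nil, or_false] at hj'
      omega
    · exfalso
      have h5 : f₁ * 12 = f * 12 := hfM
      obtain ⟨j, hj, hd⟩ := hYc 10 ⟨by norm_num, by norm_num, by norm_num⟩ (by omega) (by omega)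
      have hd' : 120 ∣ 12 * j := hd
      have hj' : j ∈ [2, 5, 6, 8, 9, 12] := hj
      simp only [List.mem_cons, List.not_mem_nil, or_false] at hj'
      omega
    · exfalso
      have h5 : f₁ * 10 = f * 12 := hfM
      obtain ⟨j, hj, hd⟩ := hYc 4 ⟨by norm_num, by norm_num, by norm_num⟩ (by omega) (by omega)
      have hd' : 48 ∣ 10 * j := hd
      have hj' : j ∈ [2, 5, 6, 8, 9, 12] := hj
      simp only [List.mem_cons, List.not_mem_nil, or_false] at hj'
      omega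
    · exfalso
      have h5 : f₁ * 14 = f * 12 := hfM
      obtain ⟨j, hj, hd⟩ := hYc 4 ⟨by norm_num, by norm_num, by norm_num⟩ (by omega) (by omega)
      have hd' : 48 ∣ 14 * j := hd
      have hj' : j ∈ [2, 5, 6, 8, 9, 12] := hj
      simp only [List.mem_cons, List.not_mem_nil, or_false] at hj'
      omega
    · exfalso
      have h5 : f₁ * 22 = f * 12 := hfM
      obtain ⟨j, hj, hd⟩ := hYc 4 ⟨by norm_num, Or.inl ⟨by norm_num, by norm_num⟩⟩ (by omega) (by omega)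
      have hd' : 48 ∣ 22 * j := hd
      have hj' : j ∈ [2, 5, 6, 8, 9, 12] := hj
      simp only [List.mem_cons, List.not_mem_nil, or_false] at hj'
      omega
    · exfalso
      have h5 : f₁ * 26 = f * 12 := hfM
      obtain ⟨j, hj, hd⟩ := hYc 4 ⟨by norm_num, Or.inl ⟨by norm_num, by norm_num⟩⟩ (by omega) (by omega)
      have hd' : 48 ∣ 26 * j := hd
      have hj' : j ∈ [2, 5, 6, 8, 9, 12] := hj
      simp only [List.mem_cons, List.not_mem_nil, or_false] at hj'
      omega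
    · exact absurd h0 (by norm_num)
    · exact absurd h0 (by norm_num)
    · obtain rfl : q = p ^ f₁ := hfl
      rw [same_fld (M := 12) (by norm_num) hfM]
    · exact absurd h0 (by norm_num)
    · exact absurd h0 (by norm_num)

/-- **`e6`, class 12** -/
theorem bigp_e6_12 (hp : p.Prime) (hf : 1 ≤ f) (hg : Cond g) (hch : HasChar p g)
    (hc : den g * c = num g) (hdvd : c ∣ num (.e6 (p ^ f))) (hs : ∀ s, Prim p (f * 12) s → s ∣ c)
    (hpp : p ^ (36 * f) ∣ p ^ (3 * f) * c) : g = .e6 (p ^ f) := by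
  obtain ⟨f₁, hf₁, hfl, hK, hY⟩ := kd_all hp hg hch hc
  have hT := td_e6 hp hf hdvd
  have hq : 2 ≤ p ^ f := hp.two_le.trans (Nat.le_self_pow (by omega) _)
  obtain ⟨i, hi, hei, hfM, hl1, hl2, hYc⟩ := compF (δ := 3) (e := 12) hp hf hg hch hf₁ hfl hK hY hc hT (by norm_num)
    (by norm_num) hs (by rwa [mul_comm f, mul_comm f])
  have hi' : i ∈ [2, 5, 6, 8, 9, 12] := hi
  simp only [List.mem_cons, List.not_mem_nil, or_false] at hi'
  have key : (i = 12 ∧ lam g = 6) := by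
    rcases hi' with rfl | rfl | rfl | rfl | rfl | rfl <;> omega
  clear hi hi' hei hl1 hl2
  obtain ⟨rfl, hL⟩ := key
  rcases cases_lam hg hch hL (by norm_num) with ⟨q, rfl⟩ | ⟨q, rfl⟩ | ⟨q, rfl⟩ | ⟨q, rfl⟩ | ⟨q, rfl⟩ | ⟨q, rfl⟩ | ⟨q, rfl⟩ |
    ⟨h0, q, rfl⟩ | ⟨h0, q, rfl⟩ | ⟨h0, q, rfl⟩ | ⟨h0, q, rfl⟩ | ⟨h0, q, rfl⟩
  · exfalso
    have h5 : f₁ * 7 = f * 12 := hfM
    obtain ⟨j, hj, hd⟩ := hYc 4 ⟨by norm_num, by norm_num⟩ (by omega) (by omega)
    have hd' : 48 ∣ 7 * j := hd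
    have hj' : j ∈ [2, 5, 6, 8, 9, 12] := hj
    simp only [List.mem_cons, List.not_mem_nil, or_false] at hj'
    omega
  · exfalso
    have h5 : f₁ * 12 = f * 12 := hfM
    obtain ⟨j, hj, hd⟩ := hYc 10 ⟨by norm_num, by norm_num, by norm_num⟩ (by omega) (by omega)
    have hd' : 120 ∣ 12 * j := hd
    have hj' : j ∈ [2, 5, 6, 8, 9, 12] := hj
    simp only [List.mem_cons, List.not_mem_nil, or_false] at hj'
    omega
  · exfalso
    have h5 : f₁ * 12 = f * 12 := hfM
    obtain ⟨j, hj, hd⟩ := hYc 10 ⟨by norm_num, by norm_num, by norm_num⟩ (by omega) (by omega)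
    have hd' : 120 ∣ 12 * j := hd
    have hj' : j ∈ [2, 5, 6, 8, 9, 12] := hj
    simp only [List.mem_cons, List.not_mem_nil, or_false] at hj'
    omega
  · exfalso
    have h5 : f₁ * 10 = f * 12 := hfM
    obtain ⟨j, hj, hd⟩ := hYc 4 ⟨by norm_num, by norm_num, by norm_num⟩ (by omega) (by omega)
    have hd' : 48 ∣ 10 * j := hd
    have hj' : j ∈ [2, 5, 6, 8, 9, 12] := hj
    simp only [List.mem_cons, List.not_mem_nil, or_false] at hj'
    omega
  · exfalso
    have h5 : f₁ * 14 = f * 12 := hfM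
    obtain ⟨j, hj, hd⟩ := hYc 4 ⟨by norm_num, by norm_num, by norm_num⟩ (by omega) (by omega)
    have hd' : 48 ∣ 14 * j := hd
    have hj' : j ∈ [2, 5, 6, 8, 9, 12] := hj
    simp only [List.mem_cons, List.not_mem_nil, or_false] at hj'
    omega
  · exfalso
    have h5 : f₁ * 22 = f * 12 := hfM
    obtain ⟨j, hj, hd⟩ := hYc 4 ⟨by norm_num, Or.inl ⟨by norm_num, by norm_num⟩⟩ (by omega) (by omega)
    have hd' : 48 ∣ 22 * j := hd
    have hj' : j ∈ [2, 5, 6, 8, 9, 12] := hj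
    simp only [List.mem_cons, List.not_mem_nil, or_false] at hj'
    omega
  · exfalso
    have h5 : f₁ * 26 = f * 12 := hfM
    obtain ⟨j, hj, hd⟩ := hYc 4 ⟨by norm_num, Or.inl ⟨by norm_num, by norm_num⟩⟩ (by omega) (by omega)
    have hd' : 48 ∣ 26 * j := hd
    have hj' : j ∈ [2, 5, 6, 8, 9, 12] := hj
    simp only [List.mem_cons, List.not_mem_nil, or_false] at hj'
    omega
  · exact absurd h0 (by norm_num)
  · exact absurd h0 (by norm_num)
  · obtain rfl : q = p ^ f₁ := hfl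
    rw [same_fld (M := 12) (by norm_num) hfM]
  · exact absurd h0 (by norm_num)
  · exact absurd h0 (by norm_num)

/-- **`te6`, class 18** -/
theorem bigp_te6_18 (hp : p.Prime) (hf : 1 ≤ f) (hg : Cond g) (hch : HasChar p g)
    (hc : den g * c = num g) (hdvd : c ∣ num (.te6 (p ^ f))) (hs : ∀ s, Prim p (f * 18) s → s ∣ c)
    (hpp : p ^ (36 * f) ∣ p ^ (3 * f) * c) : g = .te6 (p ^ f) := by
  obtain ⟨f₁, hf₁, hfl, hK, hY⟩ := kd_all hp hg hch hc
  have hT := td_te6 hp hf hdvd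
  have hq : 2 ≤ p ^ f := hp.two_le.trans (Nat.le_self_pow (by omega) _)
  obtain ⟨i, hi, hei, hfM, hl1, hl2, hYc⟩ := compF (δ := 3) (e := 18) hp hf hg hch hf₁ hfl hK hY hc hT (by norm_num)
    (by norm_num) hs (by rwa [mul_comm f, mul_comm f])
  have hi' : i ∈ [2, 10, 6, 8, 18, 12] := hi
  simp only [List.mem_cons, List.not_mem_nil, or_false] at hi'
  have key : (i = 18 ∧ lam g = 4) := by
    rcases hi' with rfl | rfl | rfl | rfl | rfl | rfl <;> omega
  clear hi hi' hei hl1 hl2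
  obtain ⟨rfl, hL⟩ := key
  rcases cases_lam hg hch hL (by norm_num) with ⟨q, rfl⟩ | ⟨q, rfl⟩ | ⟨q, rfl⟩ | ⟨q, rfl⟩ | ⟨q, rfl⟩ | ⟨q, rfl⟩ | ⟨q, rfl⟩ |
    ⟨h0, q, rfl⟩ | ⟨h0, q, rfl⟩ | ⟨h0, q, rfl⟩ | ⟨h0, q, rfl⟩ | ⟨h0, q, rfl⟩
  · exfalso
    have h5 : f₁ * 5 = f * 18 := hfM
    obtain ⟨j, hj, hd⟩ := hYc 4 ⟨by norm_num, by norm_num⟩ (by omega) (by omega)
    have hd' : 72 ∣ 5 * j := hd
    have hj' : j ∈ [2, 10, 6, 8, 18, 12] := hj
    simp only [List.mem_cons, List.not_mem_nil, or_false] at hj'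
    omega
  · exfalso
    have h5 : f₁ * 8 = f * 18 := hfM
    obtain ⟨j, hj, hd⟩ := hYc 6 ⟨by norm_num, by norm_num, by norm_num⟩ (by omega) (by omega)
    have hd' : 108 ∣ 8 * j := hd
    have hj' : j ∈ [2, 10, 6, 8, 18, 12] := hj
    simp only [List.mem_cons, List.not_mem_nil, or_false] at hj'
    omega
  · exfalso
    have h5 : f₁ * 8 = f * 18 := hfM
    obtain ⟨j, hj, hd⟩ := hYc 6 ⟨by norm_num, by norm_num, by norm_num⟩ (by omega) (by omega)
    have hd' : 108 ∣ 8 * j := hd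
    have hj' : j ∈ [2, 10, 6, 8, 18, 12] := hj
    simp only [List.mem_cons, List.not_mem_nil, or_false] at hj'
    omega
  · exfalso
    obtain rfl : q = p ^ f₁ := hfl
    have h5 : f₁ * (2 * (4 - 1)) = f * 18 := hfM
    obtain ⟨s, hs0⟩ := exists_prim (q := p ^ f) (e := 9) hq (by norm_num) (by omega)
    have hn : ¬ s ∣ c := fun h => not_dvd_te6 hs0 (h.trans hdvd)
    have h6 := Cfsg.Agent.H425.Chr.prim_quot (f := 3) (by norm_num) hs0
    rw [← pow_mul, show f * 3 = f₁ by omega] at h6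
    exact hn (oplus_prim (e := 3) 3 (by norm_num) (by norm_num) (by norm_num) le_rfl hc h6)
  · exfalso
    have h5 : f₁ * 10 = f * 18 := hfM
    obtain ⟨j, hj, hd⟩ := hYc 4 ⟨by norm_num, by norm_num, by norm_num⟩ (by omega) (by omega)
    have hd' : 72 ∣ 10 * j := hd
    have hj' : j ∈ [2, 10, 6, 8, 18, 12] := hj
    simp only [List.mem_cons, List.not_mem_nil, or_false] at hj'
    omega
  · exfalso
    have h5 : f₁ * 14 = f * 18 := hfM
    obtain ⟨j, hj, hd⟩ := hYc 4 ⟨by norm_num, Or.inl ⟨by norm_num, by norm_num⟩⟩ (by omega) (by omega)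
    have hd' : 72 ∣ 14 * j := hd
    have hj' : j ∈ [2, 10, 6, 8, 18, 12] := hj
    simp only [List.mem_cons, List.not_mem_nil, or_false] at hj'
    omega
  · exfalso
    have h5 : f₁ * 18 = f * 18 := hfM
    obtain ⟨j, hj, hd⟩ := hYc 14 ⟨by norm_num, Or.inr ⟨7, by norm_num, by norm_num, by norm_num⟩⟩ (by omega) (by omega)
    have hd' : 252 ∣ 18 * j := hd
    have hj' : j ∈ [2, 10, 6, 8, 18, 12] := hj
    simp only [List.mem_cons, List.not_mem_nil, or_false] at hj'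
    omega
  · exfalso
    obtain rfl : q = p ^ f₁ := hfl
    have h5 : f₁ * 12 = f * 18 := hfM
    obtain ⟨s, hs0⟩ := exists_prim (q := p) (e := f₁ * 6) hp.two_le (by omega) (by omega)
    have h6 : s ∣ c := hK.has (by decide : 6 ∈ [2, 3, 4, 6, 8, 12]) (by omega) hs0
    rw [show f₁ * 6 = f * 9 by omega] at hs0
    exact not_dvd_te6 (prim_pow hf hs0) (h6.trans hdvd)
  · obtain rfl : q = p ^ f₁ := hfl
    rw [same_fld (M := 18) (by norm_num) hfM]
  · exact absurd h0 (by norm_num)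
  · exact absurd h0 (by norm_num)
  · exact absurd h0 (by norm_num)

/-- **`te6`, class 12** -/
theorem bigp_te6_12 (hp : p.Prime) (hf : 1 ≤ f) (hg : Cond g) (hch : HasChar p g)
    (hc : den g * c = num g) (hdvd : c ∣ num (.te6 (p ^ f))) (hs : ∀ s, Prim p (f * 12) s → s ∣ c)
    (hpp : p ^ (36 * f) ∣ p ^ (3 * f) * c) : g = .te6 (p ^ f) := by
  obtain ⟨f₁, hf₁, hfl, hK, hY⟩ := kd_all hp hg hch hc
  have hT := td_te6 hp hf hdvd
  have hq : 2 ≤ p ^ f := hp.two_le.trans (Nat.le_self_pow (by omega) _)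
  obtain ⟨i, hi, hei, hfM, hl1, hl2, hYc⟩ := compF (δ := 3) (e := 12) hp hf hg hch hf₁ hfl hK hY hc hT (by norm_num)
    (by norm_num) hs (by rwa [mul_comm f, mul_comm f])
  have hi' : i ∈ [2, 10, 6, 8, 18, 12] := hi
  simp only [List.mem_cons, List.not_mem_nil, or_false] at hi'
  have key : (i = 12 ∧ lam g = 6) ∨ (i = 18 ∧ lam g = 4) := by
    rcases hi' with rfl | rfl | rfl | rfl | rfl | rfl <;> omega
  clear hi hi' hei hl1 hl2
  rcases key with ⟨rfl, hL⟩ | ⟨rfl, hL⟩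
  · rcases cases_lam hg hch hL (by norm_num) with ⟨q, rfl⟩ | ⟨q, rfl⟩ | ⟨q, rfl⟩ | ⟨q, rfl⟩ | ⟨q, rfl⟩ | ⟨q, rfl⟩ | ⟨q, rfl⟩ |
      ⟨h0, q, rfl⟩ | ⟨h0, q, rfl⟩ | ⟨h0, q, rfl⟩ | ⟨h0, q, rfl⟩ | ⟨h0, q, rfl⟩
    · exfalso
      have h5 : f₁ * 7 = f * 12 := hfM
      obtain ⟨j, hj, hd⟩ := hYc 4 ⟨by norm_num, by norm_num⟩ (by omega) (by omega)
      have hd' : 48 ∣ 7 * j := hd
      have hj' : j ∈ [2, 10, 6, 8, 18, 12] := hj
      simp only [List.mem_cons, List.not_mem_nil, or_false] at hj'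
      omega
    · exfalso
      obtain rfl : q = p ^ f₁ := hfl
      have h5 : f₁ * (2 * 6) = f * 12 := hfM
      obtain rfl : f₁ = f := by omega
      obtain ⟨s, hs0⟩ := exists_prim (q := p ^ f₁) (e := 5) hq (by norm_num) (by omega)
      have hn : ¬ s ∣ c := fun h => not_dvd_te6_5 hs0 (h.trans hdvd)
      exact hn (psp_prim (e := 5) 5 (by norm_num) (by norm_num) (by norm_num) (by norm_num) hc hs0)
    · exfalso
      obtain rfl : q = p ^ f₁ := hfl
      have h5 : f₁ * (2 * 6) = f * 12 := hfM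
      obtain rfl : f₁ = f := by omega
      obtain ⟨s, hs0⟩ := exists_prim (q := p ^ f₁) (e := 5) hq (by norm_num) (by omega)
      have hn : ¬ s ∣ c := fun h => not_dvd_te6_5 hs0 (h.trans hdvd)
      exact hn (oodd_prim (e := 5) 5 (by norm_num) (by norm_num) (by norm_num) (by norm_num) hc hs0)
    · exfalso
      have h5 : f₁ * 10 = f * 12 := hfM
      obtain ⟨j, hj, hd⟩ := hYc 4 ⟨by norm_num, by norm_num, by norm_num⟩ (by omega) (by omega)
      have hd' : 48 ∣ 10 * j := hd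
      have hj' : j ∈ [2, 10, 6, 8, 18, 12] := hj
      simp only [List.mem_cons, List.not_mem_nil, or_false] at hj'
      omega
    · exfalso
      have h5 : f₁ * 14 = f * 12 := hfM
      obtain ⟨j, hj, hd⟩ := hYc 4 ⟨by norm_num, by norm_num, by norm_num⟩ (by omega) (by omega)
      have hd' : 48 ∣ 14 * j := hd
      have hj' : j ∈ [2, 10, 6, 8, 18, 12] := hj
      simp only [List.mem_cons, List.not_mem_nil, or_false] at hj'
      omega
    · exfalso
      have h5 : f₁ * 22 = f * 12 := hfM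
      obtain ⟨j, hj, hd⟩ := hYc 4 ⟨by norm_num, Or.inl ⟨by norm_num, by norm_num⟩⟩ (by omega) (by omega)
      have hd' : 48 ∣ 22 * j := hd
      have hj' : j ∈ [2, 10, 6, 8, 18, 12] := hj
      simp only [List.mem_cons, List.not_mem_nil, or_false] at hj'
      omega
    · exfalso
      have h5 : f₁ * 26 = f * 12 := hfM
      obtain ⟨j, hj, hd⟩ := hYc 4 ⟨by norm_num, Or.inl ⟨by norm_num, by norm_num⟩⟩ (by omega) (by omega)
      have hd' : 48 ∣ 26 * j := hd
      have hj' : j ∈ [2, 10, 6, 8, 18, 12] := hj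
      simp only [List.mem_cons, List.not_mem_nil, or_false] at hj'
      omega
    · exact absurd h0 (by norm_num)
    · exact absurd h0 (by norm_num)
    · exfalso
      obtain rfl : q = p ^ f₁ := hfl
      have h5 : f₁ * 12 = f * 12 := hfM
      obtain rfl : f₁ = f := by omega
      obtain ⟨s, hs0⟩ := exists_prim (q := p) (e := f₁ * 9) hp.two_le (by omega) (by omega)
      have h6 : s ∣ c := hK.has (by decide : 9 ∈ [2, 3, 4, 5, 6, 8, 9, 12]) (by omega) hs0
      exact not_dvd_te6 (prim_pow hf₁ hs0) (h6.trans hdvd)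
    · exact absurd h0 (by norm_num)
    · exact absurd h0 (by norm_num)
  · rcases cases_lam hg hch hL (by norm_num) with ⟨q, rfl⟩ | ⟨q, rfl⟩ | ⟨q, rfl⟩ | ⟨q, rfl⟩ | ⟨q, rfl⟩ | ⟨q, rfl⟩ | ⟨q, rfl⟩ |
      ⟨h0, q, rfl⟩ | ⟨h0, q, rfl⟩ | ⟨h0, q, rfl⟩ | ⟨h0, q, rfl⟩ | ⟨h0, q, rfl⟩
    · exfalso
      have h5 : f₁ * 5 = f * 18 := hfM
      obtain ⟨j, hj, hd⟩ := hYc 4 ⟨by norm_num, by norm_num⟩ (by omega) (by omega)
      have hd' : 72 ∣ 5 * j := hd
      have hj' : j ∈ [2, 10, 6, 8, 18, 12] := hj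
      simp only [List.mem_cons, List.not_mem_nil, or_false] at hj'
      omega
    · exfalso
      have h5 : f₁ * 8 = f * 18 := hfM
      obtain ⟨j, hj, hd⟩ := hYc 6 ⟨by norm_num, by norm_num, by norm_num⟩ (by omega) (by omega)
      have hd' : 108 ∣ 8 * j := hd
      have hj' : j ∈ [2, 10, 6, 8, 18, 12] := hj
      simp only [List.mem_cons, List.not_mem_nil, or_false] at hj'
      omega
    · exfalso
      have h5 : f₁ * 8 = f * 18 := hfM
      obtain ⟨j, hj, hd⟩ := hYc 6 ⟨by norm_num, by norm_num, by norm_num⟩ (by omega) (by omega)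
      have hd' : 108 ∣ 8 * j := hd
      have hj' : j ∈ [2, 10, 6, 8, 18, 12] := hj
      simp only [List.mem_cons, List.not_mem_nil, or_false] at hj'
      omega
    · exfalso
      obtain rfl : q = p ^ f₁ := hfl
      have h5 : f₁ * (2 * (4 - 1)) = f * 18 := hfM
      obtain ⟨s, hs0⟩ := exists_prim (q := p ^ f) (e := 9) hq (by norm_num) (by omega)
      have hn : ¬ s ∣ c := fun h => not_dvd_te6 hs0 (h.trans hdvd)
      have h6 := Cfsg.Agent.H425.Chr.prim_quot (f := 3) (by norm_num) hs0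
      rw [← pow_mul, show f * 3 = f₁ by omega] at h6
      exact hn (oplus_prim (e := 3) 3 (by norm_num) (by norm_num) (by norm_num) le_rfl hc h6)
    · exfalso
      have h5 : f₁ * 10 = f * 18 := hfM
      obtain ⟨j, hj, hd⟩ := hYc 4 ⟨by norm_num, by norm_num, by norm_num⟩ (by omega) (by omega)
      have hd' : 72 ∣ 10 * j := hd
      have hj' : j ∈ [2, 10, 6, 8, 18, 12] := hj
      simp only [List.mem_cons, List.not_mem_nil, or_false] at hj'
      omega
    · exfalso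
      have h5 : f₁ * 14 = f * 18 := hfM
      obtain ⟨j, hj, hd⟩ := hYc 4 ⟨by norm_num, Or.inl ⟨by norm_num, by norm_num⟩⟩ (by omega) (by omega)
      have hd' : 72 ∣ 14 * j := hd
      have hj' : j ∈ [2, 10, 6, 8, 18, 12] := hj
      simp only [List.mem_cons, List.not_mem_nil, or_false] at hj'
      omega
    · exfalso
      have h5 : f₁ * 18 = f * 18 := hfM
      obtain ⟨j, hj, hd⟩ := hYc 14 ⟨by norm_num, Or.inr ⟨7, by norm_num, by norm_num, by norm_num⟩⟩ (by omega) (by omega)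
      have hd' : 252 ∣ 18 * j := hd
      have hj' : j ∈ [2, 10, 6, 8, 18, 12] := hj
      simp only [List.mem_cons, List.not_mem_nil, or_false] at hj'
      omega
    · exfalso
      obtain rfl : q = p ^ f₁ := hfl
      have h5 : f₁ * 12 = f * 18 := hfM
      obtain ⟨s, hs0⟩ := exists_prim (q := p) (e := f₁ * 6) hp.two_le (by omega) (by omega)
      have h6 : s ∣ c := hK.has (by decide : 6 ∈ [2, 3, 4, 6, 8, 12]) (by omega) hs0
      rw [show f₁ * 6 = f * 9 by omega] at hs0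
      exact not_dvd_te6 (prim_pow hf hs0) (h6.trans hdvd)
    · obtain rfl : q = p ^ f₁ := hfl
      rw [same_fld (M := 18) (by norm_num) hfM]
    · exact absurd h0 (by norm_num)
    · exact absurd h0 (by norm_num)
    · exact absurd h0 (by norm_num)

/-- **`f4`, class 12** -/
theorem bigp_f4_12 (hp : p.Prime) (hf : 1 ≤ f) (hg : Cond g) (hch : HasChar p g)
    (hc : den g * c = num g) (hdvd : c ∣ num (.f4 (p ^ f))) (hs : ∀ s, Prim p (f * 12) s → s ∣ c)
    (hpp : p ^ (24 * f) ∣ p ^ (5 * f) * c) : g = .f4 (p ^ f) := by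
  obtain ⟨f₁, hf₁, hfl, hK, hY⟩ := kd_all hp hg hch hc
  have hT := td_f4 hp hf hdvd
  have hq : 2 ≤ p ^ f := hp.two_le.trans (Nat.le_self_pow (by omega) _)
  obtain ⟨i, hi, hei, hfM, hl1, hl2, hYc⟩ := compF (δ := 5) (e := 12) hp hf hg hch hf₁ hfl hK hY hc hT (by norm_num)
    (by norm_num) hs (by rwa [mul_comm f, mul_comm f])
  have hi' : i ∈ [2, 6, 8, 12] := hi
  simp only [List.mem_cons, List.not_mem_nil, or_false] at hi'
  have key : (i = 12 ∧ lam g = 4) := by
    rcases hi' with rfl | rfl | rfl | rfl <;> omega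
  clear hi hi' hei hl1 hl2
  obtain ⟨rfl, hL⟩ := key
  rcases cases_lam hg hch hL (by norm_num) with ⟨q, rfl⟩ | ⟨q, rfl⟩ | ⟨q, rfl⟩ | ⟨q, rfl⟩ | ⟨q, rfl⟩ | ⟨q, rfl⟩ | ⟨q, rfl⟩ |
    ⟨h0, q, rfl⟩ | ⟨h0, q, rfl⟩ | ⟨h0, q, rfl⟩ | ⟨h0, q, rfl⟩ | ⟨h0, q, rfl⟩
  · exfalso
    have h5 : f₁ * 5 = f * 12 := hfM
    obtain ⟨j, hj, hd⟩ := hYc 4 ⟨by norm_num, by norm_num⟩ (by omega) (by omega)
    have hd' : 48 ∣ 5 * j := hd
    have hj' : j ∈ [2, 6, 8, 12] := hj
    simp only [List.mem_cons, List.not_mem_nil, or_false] at hj'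
    omega
  · exfalso
    have h5 : f₁ * 8 = f * 12 := hfM
    obtain ⟨j, hj, hd⟩ := hYc 6 ⟨by norm_num, by norm_num, by norm_num⟩ (by omega) (by omega)
    have hd' : 72 ∣ 8 * j := hd
    have hj' : j ∈ [2, 6, 8, 12] := hj
    simp only [List.mem_cons, List.not_mem_nil, or_false] at hj'
    omega
  · exfalso
    have h5 : f₁ * 8 = f * 12 := hfM
    obtain ⟨j, hj, hd⟩ := hYc 6 ⟨by norm_num, by norm_num, by norm_num⟩ (by omega) (by omega)
    have hd' : 72 ∣ 8 * j := hd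
    have hj' : j ∈ [2, 6, 8, 12] := hj
    simp only [List.mem_cons, List.not_mem_nil, or_false] at hj'
    omega
  · exfalso
    obtain rfl : q = p ^ f₁ := hfl
    have h5 : f₁ * (2 * (4 - 1)) = f * 12 := hfM
    obtain rfl : f₁ = f * 2 := by omega
    exact kill_oplus4 hp hf hc hdvd
  · exfalso
    have h5 : f₁ * 10 = f * 12 := hfM
    obtain ⟨j, hj, hd⟩ := hYc 4 ⟨by norm_num, by norm_num, by norm_num⟩ (by omega) (by omega)
    have hd' : 48 ∣ 10 * j := hd
    have hj' : j ∈ [2, 6, 8, 12] := hj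
    simp only [List.mem_cons, List.not_mem_nil, or_false] at hj'
    omega
  · exfalso
    have h5 : f₁ * 14 = f * 12 := hfM
    obtain ⟨j, hj, hd⟩ := hYc 4 ⟨by norm_num, Or.inl ⟨by norm_num, by norm_num⟩⟩ (by omega) (by omega)
    have hd' : 48 ∣ 14 * j := hd
    have hj' : j ∈ [2, 6, 8, 12] := hj
    simp only [List.mem_cons, List.not_mem_nil, or_false] at hj'
    omega
  · exfalso
    have h5 : f₁ * 18 = f * 12 := hfM
    obtain ⟨j, hj, hd⟩ := hYc 8 ⟨by norm_num, Or.inl ⟨by norm_num, by norm_num⟩⟩ (by omega) (by omega)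
    have hd' : 96 ∣ 18 * j := hd
    have hj' : j ∈ [2, 6, 8, 12] := hj
    simp only [List.mem_cons, List.not_mem_nil, or_false] at hj'
    omega
  · obtain rfl : q = p ^ f₁ := hfl
    rw [same_fld (M := 12) (by norm_num) hfM]
  · exfalso
    have h5 : f₁ * 18 = f * 12 := hfM
    obtain ⟨j, hj, hd⟩ := hYc 8 (by decide : 8 ∈ [2, 3, 4, 6, 8, 10, 12, 18]) (by omega) (by omega)
    have hd' : 96 ∣ 18 * j := hd
    have hj' : j ∈ [2, 6, 8, 12] := hj
    simp only [List.mem_cons, List.not_mem_nil, or_false] at hj'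
    omega
  · exact absurd h0 (by norm_num)
  · exact absurd h0 (by norm_num)
  · exact absurd h0 (by norm_num)

/-- **`f4`, class 8** -/
theorem bigp_f4_8 (hp : p.Prime) (hf : 1 ≤ f) (hg : Cond g) (hch : HasChar p g)
    (hc : den g * c = num g) (hdvd : c ∣ num (.f4 (p ^ f))) (hs : ∀ s, Prim p (f * 8) s → s ∣ c)
    (hpp : p ^ (24 * f) ∣ p ^ (5 * f) * c) : g = .f4 (p ^ f) := by
  obtain ⟨f₁, hf₁, hfl, hK, hY⟩ := kd_all hp hg hch hc
  have hT := td_f4 hp hf hdvd
  have hq : 2 ≤ p ^ f := hp.two_le.trans (Nat.le_self_pow (by omega) _)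
  obtain ⟨i, hi, hei, hfM, hl1, hl2, hYc⟩ := compF (δ := 5) (e := 8) hp hf hg hch hf₁ hfl hK hY hc hT (by norm_num)
    (by norm_num) hs (by rwa [mul_comm f, mul_comm f])
  have hi' : i ∈ [2, 6, 8, 12] := hi
  simp only [List.mem_cons, List.not_mem_nil, or_false] at hi'
  have key : (i = 8 ∧ lam g = 5) ∨ (i = 8 ∧ lam g = 6) ∨ (i = 12 ∧ lam g = 4) := by
    rcases hi' with rfl | rfl | rfl | rfl <;> omega
  clear hi hi' hei hl1 hl2
  rcases key with ⟨rfl, hL⟩ | ⟨rfl, hL⟩ | ⟨rfl, hL⟩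
  · rcases cases_lam hg hch hL (by norm_num) with ⟨q, rfl⟩ | ⟨q, rfl⟩ | ⟨q, rfl⟩ | ⟨q, rfl⟩ | ⟨q, rfl⟩ | ⟨q, rfl⟩ | ⟨q, rfl⟩ |
      ⟨h0, q, rfl⟩ | ⟨h0, q, rfl⟩ | ⟨h0, q, rfl⟩ | ⟨h0, q, rfl⟩ | ⟨h0, q, rfl⟩
    · exfalso
      have h5 : f₁ * 6 = f * 8 := hfM
      obtain ⟨j, hj, hd⟩ := hYc 4 ⟨by norm_num, by norm_num⟩ (by omega) (by omega)
      have hd' : 32 ∣ 6 * j := hd
      have hj' : j ∈ [2, 6, 8, 12] := hj
      simp only [List.mem_cons, List.not_mem_nil, or_false] at hj'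
      omega
    · exfalso
      have h5 : f₁ * 10 = f * 8 := hfM
      obtain ⟨j, hj, hd⟩ := hYc 4 ⟨by norm_num, by norm_num, by norm_num⟩ (by omega) (by omega)
      have hd' : 32 ∣ 10 * j := hd
      have hj' : j ∈ [2, 6, 8, 12] := hj
      simp only [List.mem_cons, List.not_mem_nil, or_false] at hj'
      omega
    · exfalso
      have h5 : f₁ * 10 = f * 8 := hfM
      obtain ⟨j, hj, hd⟩ := hYc 4 ⟨by norm_num, by norm_num, by norm_num⟩ (by omega) (by omega)
      have hd' : 32 ∣ 10 * j := hd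
      have hj' : j ∈ [2, 6, 8, 12] := hj
      simp only [List.mem_cons, List.not_mem_nil, or_false] at hj'
      omega
    · exfalso
      obtain rfl : q = p ^ f₁ := hfl
      have h5 : f₁ * (2 * (5 - 1)) = f * 8 := hfM
      obtain rfl : f₁ = f := by omega
      obtain ⟨s, hs0⟩ := exists_prim (q := p) (e := f₁ * 5) hp.two_le (by omega) (by omega)
      have hs1 := prim_pow hf₁ hs0
      have h6 : s ∣ c := by
        refine hs1.dvd_of_eq hc ?_ (hs1.not_dvd_gcd_four (by norm_num))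
        change s ∣ (p ^ f₁) ^ (5 * (5 - 1)) * (((p ^ f₁) ^ 5 - 1) * prB (p ^ f₁) (5 - 1))
        exact ((hs1.dvd dvd_rfl).mul_right _).mul_left _
      obtain ⟨j, hj, hd⟩ := hT.exp hs0 h6
      have hj' : j ∈ [2, 6, 8, 12] := hj
      have hd' := Nat.dvd_of_mul_dvd_mul_left (by omega) hd
      simp only [List.mem_cons, List.not_mem_nil, or_false] at hj'
      omega
    · exfalso
      have h5 : f₁ * 12 = f * 8 := hfM
      obtain ⟨j, hj, hd⟩ := hYc 8 ⟨by norm_num, by norm_num, by norm_num⟩ (by omega) (by omega)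
      have hd' : 64 ∣ 12 * j := hd
      have hj' : j ∈ [2, 6, 8, 12] := hj
      simp only [List.mem_cons, List.not_mem_nil, or_false] at hj'
      omega
    · exfalso
      have h5 : f₁ * 18 = f * 8 := hfM
      obtain ⟨j, hj, hd⟩ := hYc 4 ⟨by norm_num, Or.inl ⟨by norm_num, by norm_num⟩⟩ (by omega) (by omega)
      have hd' : 32 ∣ 18 * j := hd
      have hj' : j ∈ [2, 6, 8, 12] := hj
      simp only [List.mem_cons, List.not_mem_nil, or_false] at hj'
      omega
    · exfalso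
      have h5 : f₁ * 22 = f * 8 := hfM
      obtain ⟨j, hj, hd⟩ := hYc 4 ⟨by norm_num, Or.inl ⟨by norm_num, by norm_num⟩⟩ (by omega) (by omega)
      have hd' : 32 ∣ 22 * j := hd
      have hj' : j ∈ [2, 6, 8, 12] := hj
      simp only [List.mem_cons, List.not_mem_nil, or_false] at hj'
      omega
    · exact absurd h0 (by norm_num)
    · exact absurd h0 (by norm_num)
    · exact absurd h0 (by norm_num)
    · exact absurd h0 (by norm_num)
    · exact absurd h0 (by norm_num)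
  · rcases cases_lam hg hch hL (by norm_num) with ⟨q, rfl⟩ | ⟨q, rfl⟩ | ⟨q, rfl⟩ | ⟨q, rfl⟩ | ⟨q, rfl⟩ | ⟨q, rfl⟩ | ⟨q, rfl⟩ |
      ⟨h0, q, rfl⟩ | ⟨h0, q, rfl⟩ | ⟨h0, q, rfl⟩ | ⟨h0, q, rfl⟩ | ⟨h0, q, rfl⟩
    · exfalso
      have h5 : f₁ * 7 = f * 8 := hfM
      obtain ⟨j, hj, hd⟩ := hYc 4 ⟨by norm_num, by norm_num⟩ (by omega) (by omega)
      have hd' : 32 ∣ 7 * j := hd
      have hj' : j ∈ [2, 6, 8, 12] := hj
      simp only [List.mem_cons, List.not_mem_nil, or_false] at hj'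
      omega
    · exfalso
      have h5 : f₁ * 12 = f * 8 := hfM
      obtain ⟨j, hj, hd⟩ := hYc 8 ⟨by norm_num, by norm_num, by norm_num⟩ (by omega) (by omega)
      have hd' : 64 ∣ 12 * j := hd
      have hj' : j ∈ [2, 6, 8, 12] := hj
      simp only [List.mem_cons, List.not_mem_nil, or_false] at hj'
      omega
    · exfalso
      have h5 : f₁ * 12 = f * 8 := hfM
      obtain ⟨j, hj, hd⟩ := hYc 8 ⟨by norm_num, by norm_num, by norm_num⟩ (by omega) (by omega)
      have hd' : 64 ∣ 12 * j := hd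
      have hj' : j ∈ [2, 6, 8, 12] := hj
      simp only [List.mem_cons, List.not_mem_nil, or_false] at hj'
      omega
    · exfalso
      have h5 : f₁ * 10 = f * 8 := hfM
      obtain ⟨j, hj, hd⟩ := hYc 4 ⟨by norm_num, by norm_num, by norm_num⟩ (by omega) (by omega)
      have hd' : 32 ∣ 10 * j := hd
      have hj' : j ∈ [2, 6, 8, 12] := hj
      simp only [List.mem_cons, List.not_mem_nil, or_false] at hj'
      omega
    · exfalso
      have h5 : f₁ * 14 = f * 8 := hfM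
      obtain ⟨j, hj, hd⟩ := hYc 4 ⟨by norm_num, by norm_num, by norm_num⟩ (by omega) (by omega)
      have hd' : 32 ∣ 14 * j := hd
      have hj' : j ∈ [2, 6, 8, 12] := hj
      simp only [List.mem_cons, List.not_mem_nil, or_false] at hj'
      omega
    · exfalso
      have h5 : f₁ * 22 = f * 8 := hfM
      obtain ⟨j, hj, hd⟩ := hYc 4 ⟨by norm_num, Or.inl ⟨by norm_num, by norm_num⟩⟩ (by omega) (by omega)
      have hd' : 32 ∣ 22 * j := hd
      have hj' : j ∈ [2, 6, 8, 12] := hj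
      simp only [List.mem_cons, List.not_mem_nil, or_false] at hj'
      omega
    · exfalso
      have h5 : f₁ * 26 = f * 8 := hfM
      obtain ⟨j, hj, hd⟩ := hYc 4 ⟨by norm_num, Or.inl ⟨by norm_num, by norm_num⟩⟩ (by omega) (by omega)
      have hd' : 32 ∣ 26 * j := hd
      have hj' : j ∈ [2, 6, 8, 12] := hj
      simp only [List.mem_cons, List.not_mem_nil, or_false] at hj'
      omega
    · exact absurd h0 (by norm_num)
    · exact absurd h0 (by norm_num)
    · exfalso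
      have h5 : f₁ * 12 = f * 8 := hfM
      obtain ⟨j, hj, hd⟩ := hYc 5 (by decide : 5 ∈ [2, 3, 4, 5, 6, 8, 9, 12]) (by omega) (by omega)
      have hd' : 40 ∣ 12 * j := hd
      have hj' : j ∈ [2, 6, 8, 12] := hj
      simp only [List.mem_cons, List.not_mem_nil, or_false] at hj'
      omega
    · exact absurd h0 (by norm_num)
    · exact absurd h0 (by norm_num)
  · rcases cases_lam hg hch hL (by norm_num) with ⟨q, rfl⟩ | ⟨q, rfl⟩ | ⟨q, rfl⟩ | ⟨q, rfl⟩ | ⟨q, rfl⟩ | ⟨q, rfl⟩ | ⟨q, rfl⟩ |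
      ⟨h0, q, rfl⟩ | ⟨h0, q, rfl⟩ | ⟨h0, q, rfl⟩ | ⟨h0, q, rfl⟩ | ⟨h0, q, rfl⟩
    · exfalso
      have h5 : f₁ * 5 = f * 12 := hfM
      obtain ⟨j, hj, hd⟩ := hYc 4 ⟨by norm_num, by norm_num⟩ (by omega) (by omega)
      have hd' : 48 ∣ 5 * j := hd
      have hj' : j ∈ [2, 6, 8, 12] := hj
      simp only [List.mem_cons, List.not_mem_nil, or_false] at hj'
      omega
    · exfalso
      have h5 : f₁ * 8 = f * 12 := hfM
      obtain ⟨j, hj, hd⟩ := hYc 6 ⟨by norm_num, by norm_num, by norm_num⟩ (by omega) (by omega)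
      have hd' : 72 ∣ 8 * j := hd
      have hj' : j ∈ [2, 6, 8, 12] := hj
      simp only [List.mem_cons, List.not_mem_nil, or_false] at hj'
      omega
    · exfalso
      have h5 : f₁ * 8 = f * 12 := hfM
      obtain ⟨j, hj, hd⟩ := hYc 6 ⟨by norm_num, by norm_num, by norm_num⟩ (by omega) (by omega)
      have hd' : 72 ∣ 8 * j := hd
      have hj' : j ∈ [2, 6, 8, 12] := hj
      simp only [List.mem_cons, List.not_mem_nil, or_false] at hj'
      omega
    · exfalso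
      obtain rfl : q = p ^ f₁ := hfl
      have h5 : f₁ * (2 * (4 - 1)) = f * 12 := hfM
      obtain rfl : f₁ = f * 2 := by omega
      exact kill_oplus4 hp hf hc hdvd
    · exfalso
      have h5 : f₁ * 10 = f * 12 := hfM
      obtain ⟨j, hj, hd⟩ := hYc 4 ⟨by norm_num, by norm_num, by norm_num⟩ (by omega) (by omega)
      have hd' : 48 ∣ 10 * j := hd
      have hj' : j ∈ [2, 6, 8, 12] := hj
      simp only [List.mem_cons, List.not_mem_nil, or_false] at hj'
      omega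
    · exfalso
      have h5 : f₁ * 14 = f * 12 := hfM
      obtain ⟨j, hj, hd⟩ := hYc 4 ⟨by norm_num, Or.inl ⟨by norm_num, by norm_num⟩⟩ (by omega) (by omega)
      have hd' : 48 ∣ 14 * j := hd
      have hj' : j ∈ [2, 6, 8, 12] := hj
      simp only [List.mem_cons, List.not_mem_nil, or_false] at hj'
      omega
    · exfalso
      have h5 : f₁ * 18 = f * 12 := hfM
      obtain ⟨j, hj, hd⟩ := hYc 8 ⟨by norm_num, Or.inl ⟨by norm_num, by norm_num⟩⟩ (by omega) (by omega)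
      have hd' : 96 ∣ 18 * j := hd
      have hj' : j ∈ [2, 6, 8, 12] := hj
      simp only [List.mem_cons, List.not_mem_nil, or_false] at hj'
      omega
    · obtain rfl : q = p ^ f₁ := hfl
      rw [same_fld (M := 12) (by norm_num) hfM]
    · exfalso
      have h5 : f₁ * 18 = f * 12 := hfM
      obtain ⟨j, hj, hd⟩ := hYc 8 (by decide : 8 ∈ [2, 3, 4, 6, 8, 10, 12, 18]) (by omega) (by omega)
      have hd' : 96 ∣ 18 * j := hd
      have hj' : j ∈ [2, 6, 8, 12] := hj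
      simp only [List.mem_cons, List.not_mem_nil, or_false] at hj'
      omega
    · exact absurd h0 (by norm_num)
    · exact absurd h0 (by norm_num)
    · exact absurd h0 (by norm_num)

/-- **`e8`, class 24** -/
theorem bigp_e8_24 (hp : p.Prime) (hf : 1 ≤ f) (hg : Cond g) (hch : HasChar p g)
    (hc : den g * c = num g) (hdvd : c ∣ num (.e8 (p ^ f))) (hs : ∀ s, Prim p (f * 24) s → s ∣ c)
    (hpp : p ^ (120 * f) ∣ p ^ (6 * f) * c) : g = .e8 (p ^ f) := by
  obtain ⟨f₁, hf₁, hfl, hK, hY⟩ := kd_all hp hg hch hc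
  have hT := td_e8 hp hf hdvd
  have hq : 2 ≤ p ^ f := hp.two_le.trans (Nat.le_self_pow (by omega) _)
  obtain ⟨i, hi, hei, hfM, hl1, hl2, hYc⟩ := compF (δ := 6) (e := 24) hp hf hg hch hf₁ hfl hK hY hc hT (by norm_num)
    (by norm_num) hs (by rwa [mul_comm f, mul_comm f])
  have hi' : i ∈ [2, 8, 12, 14, 18, 20, 24, 30] := hi
  simp only [List.mem_cons, List.not_mem_nil, or_false] at hi'
  have key : (i = 24 ∧ lam g = 10) ∨ (i = 30 ∧ lam g = 8) := by
    rcases hi' with rfl | rfl | rfl | rfl | rfl | rfl | rfl | rfl <;> omega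
  clear hi hi' hei hl1 hl2
  rcases key with ⟨rfl, hL⟩ | ⟨rfl, hL⟩
  · rcases cases_lam hg hch hL (by norm_num) with ⟨q, rfl⟩ | ⟨q, rfl⟩ | ⟨q, rfl⟩ | ⟨q, rfl⟩ | ⟨q, rfl⟩ | ⟨q, rfl⟩ | ⟨q, rfl⟩ |
      ⟨h0, q, rfl⟩ | ⟨h0, q, rfl⟩ | ⟨h0, q, rfl⟩ | ⟨h0, q, rfl⟩ | ⟨h0, q, rfl⟩
    · exfalso
      have h5 : f₁ * 11 = f * 24 := hfM
      obtain ⟨j, hj, hd⟩ := hYc 4 ⟨by norm_num, by norm_num⟩ (by omega) (by omega)
      have hd' : 96 ∣ 11 * j := hd
      have hj' : j ∈ [2, 8, 12, 14, 18, 20, 24, 30] := hj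
      simp only [List.mem_cons, List.not_mem_nil, or_false] at hj'
      omega
    · exfalso
      have h5 : f₁ * 20 = f * 24 := hfM
      obtain ⟨j, hj, hd⟩ := hYc 8 ⟨by norm_num, by norm_num, by norm_num⟩ (by omega) (by omega)
      have hd' : 192 ∣ 20 * j := hd
      have hj' : j ∈ [2, 8, 12, 14, 18, 20, 24, 30] := hj
      simp only [List.mem_cons, List.not_mem_nil, or_false] at hj'
      omega
    · exfalso
      have h5 : f₁ * 20 = f * 24 := hfM
      obtain ⟨j, hj, hd⟩ := hYc 8 ⟨by norm_num, by norm_num, by norm_num⟩ (by omega) (by omega)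
      have hd' : 192 ∣ 20 * j := hd
      have hj' : j ∈ [2, 8, 12, 14, 18, 20, 24, 30] := hj
      simp only [List.mem_cons, List.not_mem_nil, or_false] at hj'
      omega
    · exfalso
      have h5 : f₁ * 18 = f * 24 := hfM
      obtain ⟨j, hj, hd⟩ := hYc 4 ⟨by norm_num, by norm_num, by norm_num⟩ (by omega) (by omega)
      have hd' : 96 ∣ 18 * j := hd
      have hj' : j ∈ [2, 8, 12, 14, 18, 20, 24, 30] := hj
      simp only [List.mem_cons, List.not_mem_nil, or_false] at hj'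
      omega
    · exfalso
      have h5 : f₁ * 22 = f * 24 := hfM
      obtain ⟨j, hj, hd⟩ := hYc 4 ⟨by norm_num, by norm_num, by norm_num⟩ (by omega) (by omega)
      have hd' : 96 ∣ 22 * j := hd
      have hj' : j ∈ [2, 8, 12, 14, 18, 20, 24, 30] := hj
      simp only [List.mem_cons, List.not_mem_nil, or_false] at hj'
      omega
    · exfalso
      have h5 : f₁ * 38 = f * 24 := hfM
      obtain ⟨j, hj, hd⟩ := hYc 4 ⟨by norm_num, Or.inl ⟨by norm_num, by norm_num⟩⟩ (by omega) (by omega)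
      have hd' : 96 ∣ 38 * j := hd
      have hj' : j ∈ [2, 8, 12, 14, 18, 20, 24, 30] := hj
      simp only [List.mem_cons, List.not_mem_nil, or_false] at hj'
      omega
    · exfalso
      have h5 : f₁ * 42 = f * 24 := hfM
      obtain ⟨j, hj, hd⟩ := hYc 4 ⟨by norm_num, Or.inl ⟨by norm_num, by norm_num⟩⟩ (by omega) (by omega)
      have hd' : 96 ∣ 42 * j := hd
      have hj' : j ∈ [2, 8, 12, 14, 18, 20, 24, 30] := hj
      simp only [List.mem_cons, List.not_mem_nil, or_false] at hj'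
      omega
    · exact absurd h0 (by norm_num)
    · exact absurd h0 (by norm_num)
    · exact absurd h0 (by norm_num)
    · exact absurd h0 (by norm_num)
    · exact absurd h0 (by norm_num)
  · rcases cases_lam hg hch hL (by norm_num) with ⟨q, rfl⟩ | ⟨q, rfl⟩ | ⟨q, rfl⟩ | ⟨q, rfl⟩ | ⟨q, rfl⟩ | ⟨q, rfl⟩ | ⟨q, rfl⟩ |
      ⟨h0, q, rfl⟩ | ⟨h0, q, rfl⟩ | ⟨h0, q, rfl⟩ | ⟨h0, q, rfl⟩ | ⟨h0, q, rfl⟩
    · exfalso
      have h5 : f₁ * 9 = f * 30 := hfM
      obtain ⟨j, hj, hd⟩ := hYc 4 ⟨by norm_num, by norm_num⟩ (by omega) (by omega)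
      have hd' : 120 ∣ 9 * j := hd
      have hj' : j ∈ [2, 8, 12, 14, 18, 20, 24, 30] := hj
      simp only [List.mem_cons, List.not_mem_nil, or_false] at hj'
      omega
    · exfalso
      have h5 : f₁ * 16 = f * 30 := hfM
      obtain ⟨j, hj, hd⟩ := hYc 10 ⟨by norm_num, by norm_num, by norm_num⟩ (by omega) (by omega)
      have hd' : 300 ∣ 16 * j := hd
      have hj' : j ∈ [2, 8, 12, 14, 18, 20, 24, 30] := hj
      simp only [List.mem_cons, List.not_mem_nil, or_false] at hj'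
      omega
    · exfalso
      have h5 : f₁ * 16 = f * 30 := hfM
      obtain ⟨j, hj, hd⟩ := hYc 10 ⟨by norm_num, by norm_num, by norm_num⟩ (by omega) (by omega)
      have hd' : 300 ∣ 16 * j := hd
      have hj' : j ∈ [2, 8, 12, 14, 18, 20, 24, 30] := hj
      simp only [List.mem_cons, List.not_mem_nil, or_false] at hj'
      omega
    · exfalso
      have h5 : f₁ * 14 = f * 30 := hfM
      obtain ⟨j, hj, hd⟩ := hYc 4 ⟨by norm_num, by norm_num, by norm_num⟩ (by omega) (by omega)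
      have hd' : 120 ∣ 14 * j := hd
      have hj' : j ∈ [2, 8, 12, 14, 18, 20, 24, 30] := hj
      simp only [List.mem_cons, List.not_mem_nil, or_false] at hj'
      omega
    · exfalso
      have h5 : f₁ * 18 = f * 30 := hfM
      obtain ⟨j, hj, hd⟩ := hYc 8 ⟨by norm_num, by norm_num, by norm_num⟩ (by omega) (by omega)
      have hd' : 240 ∣ 18 * j := hd
      have hj' : j ∈ [2, 8, 12, 14, 18, 20, 24, 30] := hj
      simp only [List.mem_cons, List.not_mem_nil, or_false] at hj'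
      omega
    · exfalso
      have h5 : f₁ * 30 = f * 30 := hfM
      obtain ⟨j, hj, hd⟩ := hYc 16 ⟨by norm_num, Or.inl ⟨by norm_num, by norm_num⟩⟩ (by omega) (by omega)
      have hd' : 480 ∣ 30 * j := hd
      have hj' : j ∈ [2, 8, 12, 14, 18, 20, 24, 30] := hj
      simp only [List.mem_cons, List.not_mem_nil, or_false] at hj'
      omega
    · exfalso
      have h5 : f₁ * 34 = f * 30 := hfM
      obtain ⟨j, hj, hd⟩ := hYc 4 ⟨by norm_num, Or.inl ⟨by norm_num, by norm_num⟩⟩ (by omega) (by omega)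
      have hd' : 120 ∣ 34 * j := hd
      have hj' : j ∈ [2, 8, 12, 14, 18, 20, 24, 30] := hj
      simp only [List.mem_cons, List.not_mem_nil, or_false] at hj'
      omega
    · exact absurd h0 (by norm_num)
    · exact absurd h0 (by norm_num)
    · exact absurd h0 (by norm_num)
    · exact absurd h0 (by norm_num)
    · obtain rfl : q = p ^ f₁ := hfl
      rw [same_fld (M := 30) (by norm_num) hfM]

/-- **`e8`, class 20** -/
theorem bigp_e8_20 (hp : p.Prime) (hf : 1 ≤ f) (hg : Cond g) (hch : HasChar p g)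
    (hc : den g * c = num g) (hdvd : c ∣ num (.e8 (p ^ f))) (hs : ∀ s, Prim p (f * 20) s → s ∣ c)
    (hpp : p ^ (120 * f) ∣ p ^ (6 * f) * c) : g = .e8 (p ^ f) := by
  obtain ⟨f₁, hf₁, hfl, hK, hY⟩ := kd_all hp hg hch hc
  have hT := td_e8 hp hf hdvd
  have hq : 2 ≤ p ^ f := hp.two_le.trans (Nat.le_self_pow (by omega) _)
  obtain ⟨i, hi, hei, hfM, hl1, hl2, hYc⟩ := compF (δ := 6) (e := 20) hp hf hg hch hf₁ hfl hK hY hc hT (by norm_num)
    (by norm_num) hs (by rwa [mul_comm f, mul_comm f])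
  have hi' : i ∈ [2, 8, 12, 14, 18, 20, 24, 30] := hi
  simp only [List.mem_cons, List.not_mem_nil, or_false] at hi'
  have key : (i = 20 ∧ lam g = 12) ∨ (i = 24 ∧ lam g = 10) ∨ (i = 30 ∧ lam g = 8) := by
    rcases hi' with rfl | rfl | rfl | rfl | rfl | rfl | rfl | rfl <;> omega
  clear hi hi' hei hl1 hl2
  rcases key with ⟨rfl, hL⟩ | ⟨rfl, hL⟩ | ⟨rfl, hL⟩
  · rcases cases_lam hg hch hL (by norm_num) with ⟨q, rfl⟩ | ⟨q, rfl⟩ | ⟨q, rfl⟩ | ⟨q, rfl⟩ | ⟨q, rfl⟩ | ⟨q, rfl⟩ | ⟨q, rfl⟩ |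
      ⟨h0, q, rfl⟩ | ⟨h0, q, rfl⟩ | ⟨h0, q, rfl⟩ | ⟨h0, q, rfl⟩ | ⟨h0, q, rfl⟩
    · exfalso
      have h5 : f₁ * 13 = f * 20 := hfM
      obtain ⟨j, hj, hd⟩ := hYc 4 ⟨by norm_num, by norm_num⟩ (by omega) (by omega)
      have hd' : 80 ∣ 13 * j := hd
      have hj' : j ∈ [2, 8, 12, 14, 18, 20, 24, 30] := hj
      simp only [List.mem_cons, List.not_mem_nil, or_false] at hj'
      omega
    · exfalso
      have h5 : f₁ * 24 = f * 20 := hfM
      obtain ⟨j, hj, hd⟩ := hYc 10 ⟨by norm_num, by norm_num, by norm_num⟩ (by omega) (by omega)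
      have hd' : 200 ∣ 24 * j := hd
      have hj' : j ∈ [2, 8, 12, 14, 18, 20, 24, 30] := hj
      simp only [List.mem_cons, List.not_mem_nil, or_false] at hj'
      omega
    · exfalso
      have h5 : f₁ * 24 = f * 20 := hfM
      obtain ⟨j, hj, hd⟩ := hYc 10 ⟨by norm_num, by norm_num, by norm_num⟩ (by omega) (by omega)
      have hd' : 200 ∣ 24 * j := hd
      have hj' : j ∈ [2, 8, 12, 14, 18, 20, 24, 30] := hj
      simp only [List.mem_cons, List.not_mem_nil, or_false] at hj'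
      omega
    · exfalso
      have h5 : f₁ * 22 = f * 20 := hfM
      obtain ⟨j, hj, hd⟩ := hYc 4 ⟨by norm_num, by norm_num, by norm_num⟩ (by omega) (by omega)
      have hd' : 80 ∣ 22 * j := hd
      have hj' : j ∈ [2, 8, 12, 14, 18, 20, 24, 30] := hj
      simp only [List.mem_cons, List.not_mem_nil, or_false] at hj'
      omega
    · exfalso
      have h5 : f₁ * 26 = f * 20 := hfM
      obtain ⟨j, hj, hd⟩ := hYc 4 ⟨by norm_num, by norm_num, by norm_num⟩ (by omega) (by omega)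
      have hd' : 80 ∣ 26 * j := hd
      have hj' : j ∈ [2, 8, 12, 14, 18, 20, 24, 30] := hj
      simp only [List.mem_cons, List.not_mem_nil, or_false] at hj'
      omega
    · exfalso
      have h5 : f₁ * 46 = f * 20 := hfM
      obtain ⟨j, hj, hd⟩ := hYc 4 ⟨by norm_num, Or.inl ⟨by norm_num, by norm_num⟩⟩ (by omega) (by omega)
      have hd' : 80 ∣ 46 * j := hd
      have hj' : j ∈ [2, 8, 12, 14, 18, 20, 24, 30] := hj
      simp only [List.mem_cons, List.not_mem_nil, or_false] at hj'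
      omega
    · exfalso
      have h5 : f₁ * 50 = f * 20 := hfM
      obtain ⟨j, hj, hd⟩ := hYc 8 ⟨by norm_num, Or.inl ⟨by norm_num, by norm_num⟩⟩ (by omega) (by omega)
      have hd' : 160 ∣ 50 * j := hd
      have hj' : j ∈ [2, 8, 12, 14, 18, 20, 24, 30] := hj
      simp only [List.mem_cons, List.not_mem_nil, or_false] at hj'
      omega
    · exact absurd h0 (by norm_num)
    · exact absurd h0 (by norm_num)
    · exact absurd h0 (by norm_num)
    · exact absurd h0 (by norm_num)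
    · exact absurd h0 (by norm_num)
  · rcases cases_lam hg hch hL (by norm_num) with ⟨q, rfl⟩ | ⟨q, rfl⟩ | ⟨q, rfl⟩ | ⟨q, rfl⟩ | ⟨q, rfl⟩ | ⟨q, rfl⟩ | ⟨q, rfl⟩ |
      ⟨h0, q, rfl⟩ | ⟨h0, q, rfl⟩ | ⟨h0, q, rfl⟩ | ⟨h0, q, rfl⟩ | ⟨h0, q, rfl⟩
    · exfalso
      have h5 : f₁ * 11 = f * 24 := hfM
      obtain ⟨j, hj, hd⟩ := hYc 4 ⟨by norm_num, by norm_num⟩ (by omega) (by omega)
      have hd' : 96 ∣ 11 * j := hd
      have hj' : j ∈ [2, 8, 12, 14, 18, 20, 24, 30] := hj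
      simp only [List.mem_cons, List.not_mem_nil, or_false] at hj'
      omega
    · exfalso
      have h5 : f₁ * 20 = f * 24 := hfM
      obtain ⟨j, hj, hd⟩ := hYc 8 ⟨by norm_num, by norm_num, by norm_num⟩ (by omega) (by omega)
      have hd' : 192 ∣ 20 * j := hd
      have hj' : j ∈ [2, 8, 12, 14, 18, 20, 24, 30] := hj
      simp only [List.mem_cons, List.not_mem_nil, or_false] at hj'
      omega
    · exfalso
      have h5 : f₁ * 20 = f * 24 := hfM
      obtain ⟨j, hj, hd⟩ := hYc 8 ⟨by norm_num, by norm_num, by norm_num⟩ (by omega) (by omega)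
      have hd' : 192 ∣ 20 * j := hd
      have hj' : j ∈ [2, 8, 12, 14, 18, 20, 24, 30] := hj
      simp only [List.mem_cons, List.not_mem_nil, or_false] at hj'
      omega
    · exfalso
      have h5 : f₁ * 18 = f * 24 := hfM
      obtain ⟨j, hj, hd⟩ := hYc 4 ⟨by norm_num, by norm_num, by norm_num⟩ (by omega) (by omega)
      have hd' : 96 ∣ 18 * j := hd
      have hj' : j ∈ [2, 8, 12, 14, 18, 20, 24, 30] := hj
      simp only [List.mem_cons, List.not_mem_nil, or_false] at hj'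
      omega
    · exfalso
      have h5 : f₁ * 22 = f * 24 := hfM
      obtain ⟨j, hj, hd⟩ := hYc 4 ⟨by norm_num, by norm_num, by norm_num⟩ (by omega) (by omega)
      have hd' : 96 ∣ 22 * j := hd
      have hj' : j ∈ [2, 8, 12, 14, 18, 20, 24, 30] := hj
      simp only [List.mem_cons, List.not_mem_nil, or_false] at hj'
      omega
    · exfalso
      have h5 : f₁ * 38 = f * 24 := hfM
      obtain ⟨j, hj, hd⟩ := hYc 4 ⟨by norm_num, Or.inl ⟨by norm_num, by norm_num⟩⟩ (by omega) (by omega)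
      have hd' : 96 ∣ 38 * j := hd
      have hj' : j ∈ [2, 8, 12, 14, 18, 20, 24, 30] := hj
      simp only [List.mem_cons, List.not_mem_nil, or_false] at hj'
      omega
    · exfalso
      have h5 : f₁ * 42 = f * 24 := hfM
      obtain ⟨j, hj, hd⟩ := hYc 4 ⟨by norm_num, Or.inl ⟨by norm_num, by norm_num⟩⟩ (by omega) (by omega)
      have hd' : 96 ∣ 42 * j := hd
      have hj' : j ∈ [2, 8, 12, 14, 18, 20, 24, 30] := hj
      simp only [List.mem_cons, List.not_mem_nil, or_false] at hj'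
      omega
    · exact absurd h0 (by norm_num)
    · exact absurd h0 (by norm_num)
    · exact absurd h0 (by norm_num)
    · exact absurd h0 (by norm_num)
    · exact absurd h0 (by norm_num)
  · rcases cases_lam hg hch hL (by norm_num) with ⟨q, rfl⟩ | ⟨q, rfl⟩ | ⟨q, rfl⟩ | ⟨q, rfl⟩ | ⟨q, rfl⟩ | ⟨q, rfl⟩ | ⟨q, rfl⟩ |
      ⟨h0, q, rfl⟩ | ⟨h0, q, rfl⟩ | ⟨h0, q, rfl⟩ | ⟨h0, q, rfl⟩ | ⟨h0, q, rfl⟩
    · exfalso
      have h5 : f₁ * 9 = f * 30 := hfM
      obtain ⟨j, hj, hd⟩ := hYc 4 ⟨by norm_num, by norm_num⟩ (by omega) (by omega)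
      have hd' : 120 ∣ 9 * j := hd
      have hj' : j ∈ [2, 8, 12, 14, 18, 20, 24, 30] := hj
      simp only [List.mem_cons, List.not_mem_nil, or_false] at hj'
      omega
    · exfalso
      have h5 : f₁ * 16 = f * 30 := hfM
      obtain ⟨j, hj, hd⟩ := hYc 10 ⟨by norm_num, by norm_num, by norm_num⟩ (by omega) (by omega)
      have hd' : 300 ∣ 16 * j := hd
      have hj' : j ∈ [2, 8, 12, 14, 18, 20, 24, 30] := hj
      simp only [List.mem_cons, List.not_mem_nil, or_false] at hj'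
      omega
    · exfalso
      have h5 : f₁ * 16 = f * 30 := hfM
      obtain ⟨j, hj, hd⟩ := hYc 10 ⟨by norm_num, by norm_num, by norm_num⟩ (by omega) (by omega)
      have hd' : 300 ∣ 16 * j := hd
      have hj' : j ∈ [2, 8, 12, 14, 18, 20, 24, 30] := hj
      simp only [List.mem_cons, List.not_mem_nil, or_false] at hj'
      omega
    · exfalso
      have h5 : f₁ * 14 = f * 30 := hfM
      obtain ⟨j, hj, hd⟩ := hYc 4 ⟨by norm_num, by norm_num, by norm_num⟩ (by omega) (by omega)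
      have hd' : 120 ∣ 14 * j := hd
      have hj' : j ∈ [2, 8, 12, 14, 18, 20, 24, 30] := hj
      simp only [List.mem_cons, List.not_mem_nil, or_false] at hj'
      omega
    · exfalso
      have h5 : f₁ * 18 = f * 30 := hfM
      obtain ⟨j, hj, hd⟩ := hYc 8 ⟨by norm_num, by norm_num, by norm_num⟩ (by omega) (by omega)
      have hd' : 240 ∣ 18 * j := hd
      have hj' : j ∈ [2, 8, 12, 14, 18, 20, 24, 30] := hj
      simp only [List.mem_cons, List.not_mem_nil, or_false] at hj'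
      omega
    · exfalso
      have h5 : f₁ * 30 = f * 30 := hfM
      obtain ⟨j, hj, hd⟩ := hYc 16 ⟨by norm_num, Or.inl ⟨by norm_num, by norm_num⟩⟩ (by omega) (by omega)
      have hd' : 480 ∣ 30 * j := hd
      have hj' : j ∈ [2, 8, 12, 14, 18, 20, 24, 30] := hj
      simp only [List.mem_cons, List.not_mem_nil, or_false] at hj'
      omega
    · exfalso
      have h5 : f₁ * 34 = f * 30 := hfM
      obtain ⟨j, hj, hd⟩ := hYc 4 ⟨by norm_num, Or.inl ⟨by norm_num, by norm_num⟩⟩ (by omega) (by omega)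
      have hd' : 120 ∣ 34 * j := hd
      have hj' : j ∈ [2, 8, 12, 14, 18, 20, 24, 30] := hj
      simp only [List.mem_cons, List.not_mem_nil, or_false] at hj'
      omega
    · exact absurd h0 (by norm_num)
    · exact absurd h0 (by norm_num)
    · exact absurd h0 (by norm_num)
    · exact absurd h0 (by norm_num)
    · obtain rfl : q = p ^ f₁ := hfl
      rw [same_fld (M := 30) (by norm_num) hfM]

end Cfsg.Agent.H363.DQ
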