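import Mathlib
import Cfsg.Agent.H363.DQ.BigP
import Cfsg.Agent.H325.Same.BigChar

/-!
# Large `p`-parts determine the characteristic, all primes `p` (helper363)

`hasChar_of_big`: the version of `H325.Same.hasChar_of_big` for all primes and slack `p ^ δ` with any `δ`.
-/

set_option autoImplicit false

namespace Cfsg.Agent.H363.DQ

universe u

open Cfsg Cfsg.Agent.OrdDiv Cfsg.Agent.H436 Cfsg.Agent.H915.GN Cfsg.Agent.H264.GN Cfsg.Agent.H264.FKS
open Cfsg.Agent.H902 Cfsg.Agent.H902.Names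
open Cfsg.Agent.H325.Same (name_cases pow_le_real)

theorem pow_six_le : ∀ k : ℕ, (k + 5) ^ 6 ≤ 27 ^ (k + 4) := by
  intro k
  induction k with
  | zero => norm_num
  | succ k ih =>
    have h1 : (k + 1 + 5) ^ 6 ≤ 27 * (k + 5) ^ 6 := by
      have h2 : 5 * (k + 1 + 5) ≤ 6 * (k + 5) := by omega
      have h3 : (5 * (k + 1 + 5)) ^ 6 ≤ (6 * (k + 5)) ^ 6 := Nat.pow_le_pow_left h2 6
      rw [mul_pow, mul_pow] at h3
      norm_num at h3
      have h4 : 0 ≤ (k + 5) ^ 6 := Nat.zero_le _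
      omega
    calc (k + 1 + 5) ^ 6 ≤ 27 * (k + 5) ^ 6 := h1
      _ ≤ 27 * 27 ^ (k + 4) := Nat.mul_le_mul_left _ ih
      _ = 27 ^ (k + 1 + 4) := by ring

/-- **The alternating groups.** -/
theorem no_alt {p n D e : ℕ} (hp : p.Prime) (hn : 5 ≤ n) (he : 13 ≤ e) (hD : D ≤ 3 * e)
    (hd : p ^ e ∣ n.factorial / 2) (hlt : n.factorial / 2 < p ^ D) : False := by
  by_cases h23 : p = 2 ∨ p = 3
  · exact H325.Same.no_alt h23 hn he hD hd hlt
  have h5 : 5 ≤ p := by
    have h1 := hp.two_le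
    rcases Nat.lt_or_ge p 5 with h2 | h2
    · exfalso
      interval_cases p
      · exact h23 (Or.inl rfl)
      · exact h23 (Or.inr rfl)
      · revert hp; norm_num
    · exact h2
  have h2 : 2 * (n.factorial / 2) = n.factorial := by
    have : 2 ∣ n.factorial := (Nat.prime_two.dvd_factorial).2 (by omega)
    omega
  set M := n.factorial / 2 with hM
  have hM0 : M ≠ 0 := by
    intro h
    rw [h] at h2
    exact (Nat.factorial_ne_zero n) h2.symm
  have hfac : ∀ p, n.factorial.factorization p = (Nat.factorization 2) p + M.factorization p := by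
    intro p
    rw [← h2, Nat.factorization_mul (by norm_num) hM0, Finsupp.add_apply]
  have hv := Art.fact_val hp (show 1 ≤ n by omega)
  have h3 := (hp.pow_dvd_iff_le_factorization hM0).1 hd
  rw [hfac] at hv
  have h4 : (p - 1) * e ≤ (p - 1) * ((Nat.factorization 2) p + M.factorization p) :=
    Nat.mul_le_mul_left _ (h3.trans (Nat.le_add_left _ _))
  have h6 : 4 * 13 ≤ (p - 1) * e := Nat.mul_le_mul (by omega) he
  obtain ⟨k, rfl⟩ := Nat.exists_eq_add_of_le' (show 11 ≤ n by omega)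
  have h7 := Art.grow_odd k
  rw [← hM] at h7
  have h8 : (p ^ 6) ^ e ≤ (27 ^ (p - 1)) ^ e := by
    apply Nat.pow_le_pow_left
    obtain ⟨j, rfl⟩ := Nat.exists_eq_add_of_le' h5
    exact pow_six_le j
  have h9 : 27 ^ ((p - 1) * e) ≤ 27 ^ (k + 10) := Nat.pow_le_pow_right (by norm_num) (by omega)
  have h10 : (p ^ D) ^ 2 ≤ (p ^ 6) ^ e := by
    rw [← pow_mul, ← pow_mul]
    exact Nat.pow_le_pow_right hp.pos (by omega)
  have h11 : M ^ 2 < (p ^ D) ^ 2 := Nat.pow_lt_pow_left hlt (by norm_num)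
  have h12 : (p ^ 6) ^ e ≤ 27 ^ ((p - 1) * e) := by rw [pow_mul]; exact h8
  omega

/-- **Large `p`-parts determine the characteristic.** -/
theorem hasChar_of_big {p f N δ B D MT : ℕ} {g : Grp} {S : Type u} [Group S] (hg : IsNamed g S)
    (hp' : p.Prime) (hdvd : Nat.card S ∣ MT) (hMT : MT ≠ 0)
    (hB : ∀ t, t.Prime → t ≠ p → Art.P t MT ≤ (p ^ f) ^ B) (hD : MT < p ^ D) (hDN : D ≤ 3 * (N * f - δ))
    (h13 : 13 ≤ N * f - δ) (hBN : f * B + δ < N * f) (hpp : p ^ (N * f) ∣ p ^ δ * Nat.card S)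
    (hspor : ∀ x ∈ spor, p ^ (N * f - δ) ∣ x.2 → x.2 ∣ MT → False) : HasChar p g := by
  have T : OrderTable.{u} := table
  have hdS : p ^ (N * f - δ) ∣ Nat.card S := by
    have h9 : p ^ (N * f) = p ^ δ * p ^ (N * f - δ) := by rw [← pow_add]; congr 1; omega
    rw [h9] at hpp
    exact Nat.dvd_of_mul_dvd_mul_left (pow_pos hp'.pos _) hpp
  have hlt : Nat.card S < p ^ D := (Nat.le_of_dvd (Nat.pos_of_ne_zero hMT) hdvd).trans_lt hD
  rcases name_cases hg.cond with ⟨l, hl, hch⟩ | ⟨m, hm, rfl⟩ | ⟨x, hx, rfl⟩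
  · by_cases hlp : l = p
    · exact hlp ▸ hch
    · exfalso
      obtain ⟨X, a, -, hR, -⟩ := exists_lie hl hg hch
      have h1 := pow_le_real hR hp' hlp h13 hdS
      have h2 := (Art.P_mono hl hMT hdvd).trans (hB l hl hlp)
      rw [← pow_mul] at h2
      have h3 : p ^ (f * B + 1) ≤ p ^ (N * f - δ) := Nat.pow_le_pow_right hp'.pos (by omega)
      have h4 : 2 * p ^ (f * B) ≤ p ^ (f * B + 1) := by
        rw [pow_succ, mul_comm]
        exact Nat.mul_le_mul_left _ hp'.two_le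
      have h5 : 2 ^ 13 ≤ p ^ (N * f - δ) :=
        (Nat.pow_le_pow_left hp'.two_le 13).trans (Nat.pow_le_pow_right hp'.pos h13)
      have h6 : 1 ≤ p ^ (f * B) := Nat.one_le_pow _ _ hp'.pos
      omega
  · exfalso
    have h1 : 2 * Nat.card S = m.factorial := hg.eq
    have h2 : Nat.card S = m.factorial / 2 := by omega
    rw [h2] at hdS hlt
    exact no_alt hp' hm h13 hDN hdS hlt
  · exfalso
    have hc : Nat.card S = x.2 := T.spor S x hx hg.real
    rw [hc] at hdS hdvd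
    exact hspor x hx hdS hdvd

/-! ### the sporadic groups -/

/-- the primes dividing the orders of the sporadic groups -/
theorem spor_part : ∀ x ∈ spor, x.2 ∣ (2 ^ 46 * 3 ^ 20) * (5 ^ 9 * 7 ^ 6 * 11 ^ 3 * 13 ^ 3 *
    (17 * 19 * 23 * 29 * 31 * 37 * 41 * 43 * 47 * 59 * 67 * 71)) := by
  decide +kernel

theorem key_ten : ∀ a < 72, ∀ b < 72, 5 ≤ 72 * a + b → ¬ (72 * a + b) ^ 10 ∣ 5 ^ 9 * 7 ^ 6 * 11 ^ 3 * 13 ^ 3 *
    (17 * 19 * 23 * 29 * 31 * 37 * 41 * 43 * 47 * 59 * 67 * 71) := by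
  decide +kernel

theorem le_ten : 5 ^ 9 * 7 ^ 6 * 11 ^ 3 * 13 ^ 3 * (17 * 19 * 23 * 29 * 31 * 37 * 41 * 43 * 47 * 59 * 67 * 71) ≤ 5000 ^ 10 := by
  decide +kernel

theorem spor_ten {p : ℕ} (hp : p.Prime) (h5 : 5 ≤ p) : ∀ x ∈ spor, ¬ p ^ 10 ∣ x.2 := by
  intro x hx h
  have h1 := h.trans (spor_part x hx)
  have h2 : Nat.Coprime (p ^ 10) (2 ^ 46 * 3 ^ 20) := by
    apply Nat.Coprime.pow_left
    apply Nat.Coprime.mul_right
    · exact Nat.Coprime.pow_right _ ((Nat.coprime_primes hp Nat.prime_two).2 (by omega))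
    · exact Nat.Coprime.pow_right _ ((Nat.coprime_primes hp Nat.prime_three).2 (by omega))
  have h4 := h2.dvd_of_dvd_mul_left h1
  have h5' : p ^ 10 ≤ 5000 ^ 10 := (Nat.le_of_dvd (by positivity) h4).trans le_ten
  have h6 : p ≤ 5000 := (Nat.pow_le_pow_iff_left (by norm_num)).1 h5'
  have h7 := key_ten (p / 72) (by omega) (p % 72) (by omega)
  rw [Nat.div_add_mod] at h7
  exact h7 h5 h4

end Cfsg.Agent.H363.DQ
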