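import Cfsg.Agent.H311.DQ.Abs
import Cfsg.Agent.H303.ReeFac
import Cfsg.Agent.H761.SzCls
import Cfsg.Agent.H42.Tw.SzRee
import Cfsg.Agent.H159.DPi.CfgT

/-!
# S4247: the Suzuki groups and the small Ree groups, characteristic not in `π` (helper363)

* `comm_of` : a solvable subgroup is abelian if the centralisers of its elements of prime order are abelian and of
  suitable index in the normalisers;
* `false_Sz`, `false_Ree` : no configuration.
-/

set_option autoImplicit false

namespace Cfsg.Agent.H363.DQ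

open Subgroup Cfsg Cfsg.Agent.H988.CPi Cfsg.Agent.H571.RV Cfsg.Agent.H817.DPi

universe u v

/-- a minimal normal subgroup of a subgroup, abelian case -/
theorem exists_elem {R : Type*} [Group R] [Finite R] (H : Subgroup R) [Group.IsSolvable H] [Nontrivial H] :
    ∃ (p : ℕ) (E : Subgroup R), p.Prime ∧ IsPGroup p E ∧ E ≠ ⊥ ∧ E ≤ H ∧ (∀ x ∈ E, x ^ p = 1) ∧
      H ≤ Subgroup.normalizer (E : Set R) := by
  obtain ⟨N, hN, hN1, hmin⟩ := Cfsg.Agent.Lib.SubnormalJoin.exists_minimal_normal H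
  obtain ⟨T, k, hTN, hTs, hk, ⟨e⟩⟩ := Cfsg.Agent.Lib.MinNormal.exists_mulEquiv_pi N hN1 hmin
  have hTsol : Group.IsSolvable T := inferInstance
  have hT := IsSimpleGroup.comm_iff_isSolvable (G := T) |>.2 hTsol
  have hab : ∀ x ∈ N, ∀ y ∈ N, Commute x y := by
    intro x hx y hy
    have h1 : (⟨x, hx⟩ : N) * ⟨y, hy⟩ = ⟨y, hy⟩ * ⟨x, hx⟩ := by
      apply e.injective
      rw [map_mul, map_mul]
      funext i
      exact hT _ _
    exact congrArg Subtype.val h1
  obtain ⟨p, hp, hpN, hexp⟩ := Cfsg.Agent.Lib.MinNormalNonabelian.abelian_structure N hN1 hmin hab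
  refine ⟨p, N.map H.subtype, hp, hpN.map _, ?_, ?_, ?_, ?_⟩
  · intro hb
    rw [Subgroup.map_eq_bot_iff_of_injective _ H.subtype_injective] at hb
    exact hN1 hb
  · rintro _ ⟨x, -, rfl⟩
    exact x.2
  · rintro _ ⟨x, hx, rfl⟩
    rw [← map_pow, hexp x hx, map_one]
  · have h1 := Subgroup.le_normalizer_map (H := N) H.subtype
    rw [Subgroup.normalizer_eq_top N, ← MonoidHom.range_eq_map, Subgroup.range_subtype] at h1
    exact h1

theorem norm_cent {G : Type*} [Group G] {x : G} : ∀ g ∈ normalizer (zpowers x : Set G),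
    ∀ y ∈ centralizer ({x} : Set G), g * y * g⁻¹ ∈ centralizer ({x} : Set G) := by
  intro g hg y hy
  have h1 : g⁻¹ * x * g ∈ zpowers x := by
    have h2 := (mem_normalizer_iff.1 (inv_mem hg) x).1 (mem_zpowers x)
    rwa [inv_inv] at h2
  obtain ⟨k, hk⟩ := h1
  simp only at hk
  have h3 : y * (g⁻¹ * x * g) = (g⁻¹ * x * g) * y := by
    rw [← hk]
    have hyx : Commute y x := mem_centralizer_singleton_iff.1 hy
    exact hyx.zpow_right k
  rw [mem_centralizer_singleton_iff]
  calc g * y * g⁻¹ * x = g * (y * (g⁻¹ * x * g)) * g⁻¹ := by group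
    _ = g * ((g⁻¹ * x * g) * y) * g⁻¹ := by rw [h3]
    _ = x * (g * y * g⁻¹) := by group

/-- a solvable subgroup is abelian if the centralisers of its elements of prime order are abelian and of suitable index
in the normalisers -/
theorem comm_of {G : Type*} [Group G] [Finite G] (P : Subgroup G) [Group.IsSolvable P]
    (hcyc : ∀ r, r.Prime → r ∣ Nat.card P → ∀ E : Subgroup G, IsPGroup r E → IsCyclic E)
    (hC : ∀ x ∈ P, (orderOf x).Prime → (∀ a ∈ centralizer {x}, ∀ b ∈ centralizer {x}, a * b = b * a) ∧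
      ∃ c, Nat.Coprime c (Nat.card P) ∧
        Nat.card (normalizer (zpowers x : Set G)) ∣ c * Nat.card (centralizer ({x} : Set G))) :
    ∀ a ∈ P, ∀ b ∈ P, a * b = b * a := by
  rcases subsingleton_or_nontrivial P with hs | hn
  · intro a ha b hb
    have h1 := congrArg Subtype.val (Subsingleton.elim (⟨a, ha⟩ : P) 1)
    have h2 := congrArg Subtype.val (Subsingleton.elim (⟨b, hb⟩ : P) 1)
    simp only [Subgroup.coe_one] at h1 h2
    rw [h1, h2]
  · obtain ⟨r, E, hr, hE, hE1, hEP, hEe, hPE⟩ := exists_elem P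
    have hrP : r ∣ Nat.card P := by
      have h1 : r ∣ Nat.card E := by
        have hn1 : Nontrivial E := (Subgroup.nontrivial_iff_ne_bot E).2 hE1
        have := Fact.mk hr
        obtain ⟨n, hn⟩ := IsPGroup.iff_card.1 hE
        have h2 : 1 < Nat.card E := Finite.one_lt_card
        have h3 : n ≠ 0 := by
          rintro rfl
          rw [hn, pow_zero] at h2
          exact lt_irrefl _ h2
        rw [hn]
        exact dvd_pow_self r h3
      exact h1.trans (Subgroup.card_dvd_of_le hEP)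
    have hEc := hcyc r hr hrP E hE
    obtain ⟨⟨x, hxE⟩, hx⟩ := hEc.exists_generator
    have hEx : E = zpowers x := by
      apply le_antisymm
      · intro y hy
        obtain ⟨k, hk⟩ := hx ⟨y, hy⟩
        refine ⟨k, ?_⟩
        have := congrArg Subtype.val hk
        simpa using this
      · rw [zpowers_le]; exact hxE
    have hx1 : x ≠ 1 := by
      rintro rfl
      exact hE1 (by rw [hEx, zpowers_one_eq_bot])
    have hxo : orderOf x = r := orderOf_eq_prime (hEe x hxE) hx1 (hp := ⟨hr⟩)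
    obtain ⟨hab, c, hc, hcard⟩ := hC x (hEP hxE) (by rw [hxo]; exact hr)
    rw [hEx] at hPE
    set N := normalizer (zpowers x : Set G) with hN
    have hCN : centralizer ({x} : Set G) ≤ N := by
      rw [hN, ← Subgroup.centralizer_closure, ← zpowers_eq_closure]
      exact Subgroup.centralizer_le_normalizer _
    have hnorm : ((centralizer ({x} : Set G)).subgroupOf N).Normal := by
      refine ⟨fun y hy g => ?_⟩
      rw [mem_subgroupOf] at hy ⊢
      exact norm_cent (g : G) g.2 (y : G) hy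
    have h1 : (centralizer ({x} : Set G)).relIndex P ∣ (centralizer ({x} : Set G)).relIndex N := by
      rw [← relIndex_subgroupOf hPE]
      exact relIndex_dvd_index_of_normal _ _
    have h2 : Nat.card (centralizer ({x} : Set G)) * (centralizer ({x} : Set G)).relIndex N = Nat.card N :=
      H311.DQ.card_mul_relIndex hCN
    have h3 : (centralizer ({x} : Set G)).relIndex N ∣ c := by
      rw [← h2, mul_comm c] at hcard
      exact Nat.dvd_of_mul_dvd_mul_left Nat.card_pos hcard
    have h4 : (centralizer ({x} : Set G)).relIndex P ∣ Nat.card P := relIndex_dvd_card _ _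
    have h5 : (centralizer ({x} : Set G)).relIndex P = 1 := Nat.eq_one_of_dvd_coprimes hc (h1.trans h3) h4
    have h6 := relIndex_eq_one.1 h5
    intro a ha b hb
    exact hab a (h6 ha) b (h6 hb)

/-- no configuration if the Hall subgroup is commutative -/
theorem false_of_comm {π : Set ℕ} {S : Type u} [Group S] {P : Subgroup S} {K B : Subgroup (MulAut S)}
    (hc : Cfg π P K B) (h : ∀ a ∈ P, ∀ b ∈ P, a * b = b * a) : False :=
  hc.nnil (LieExceptional.SuzukiCN.isNilpotent_of_comm P h)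

theorem coprime_card {π : Set ℕ} {S : Type u} [Group S] [Finite S] {P : Subgroup S} (h : IsPiHall π P) {c : ℕ}
    (hc : ∀ r, r.Prime → r ∣ c → r ∉ π) : Nat.Coprime c (Nat.card P) :=
  Nat.Coprime.symm (Nat.coprime_of_dvd fun r hr h1 h2 => hc r hr h2 (h.1 r hr h1))

section suz

open Cfsg.Agent.H761.SzCls Cfsg.Agent.H101.SzGeo

/-- **`Sz(q)`** -/
theorem false_Sz {S : Type u} [Group S] [Finite S] (h : Lie.IsoSuzuki S) {π : Set ℕ} {P : Subgroup S}
    {K B : Subgroup (MulAut S)} (hc : Cfg π P K B) : False := by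
  obtain ⟨F, iF, iF', m, hm, hF, ⟨f⟩⟩ := h
  obtain ⟨e⟩ := Cfsg.Agent.OddCyclic.ClaimC.SzIso.iso (F := F) hm hF
  have hfin : Finite (Cfsg.Sz F m) := finite_Sz F m
  have hc' := H159.DPi.Cfg.congr (f.trans e.symm) hc
  have hSz : Lie.IsoSuzuki (Cfsg.Sz F m) := ⟨F, iF, iF', m, hm, hF, ⟨e⟩⟩
  obtain ⟨P', K', B', hc'⟩ : ∃ (P' : Subgroup (Cfsg.Sz F m)) (K' B' : Subgroup (MulAut (Cfsg.Sz F m))), Cfg π P' K' B' := ⟨_, _, _, hc'⟩
  have hsol := H311.DQ.solv hc'
  have h2 : ¬ 2 ∣ Nat.card P' := fun h2 => hc'.two (hc'.hall.1 2 Nat.prime_two h2)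
  refine false_of_comm hc' (comm_of P' ?_ ?_)
  · intro r hr hrP E hE
    have := Fact.mk hr
    have hr2 : r ≠ 2 := by rintro rfl; exact h2 hrP
    exact Cfsg.Agent.OddRank.SzTits.isCyclic_of_isPGroup hSz hr2 E hE
  · intro x hxP hx
    have hx1 : x ≠ 1 := by
      rintro rfl
      rw [orderOf_one] at hx
      exact Nat.not_prime_one hx
    have hxodd : Odd (orderOf x) := by
      rw [← Nat.not_even_iff_odd, even_iff_two_dvd]
      intro h3
      exact h2 (h3.trans (Subgroup.orderOf_dvd_natCard P' hxP))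
    refine ⟨H42.Tw.sz_cent hm hF hx1 hxodd, 4, coprime_card hc'.hall ?_, ?_⟩
    · intro r hr h3
      have : r ∣ 2 := hr.dvd_of_dvd_pow (n := 2) h3
      rw [(Nat.prime_dvd_prime_iff_eq hr Nat.prime_two).1 this]
      exact hc'.two
    · rcases trichotomy hm hF hx1 with ⟨a, ha⟩ | ⟨U, hxU, hUc, hUk, hUz⟩
      · exfalso
        have h3 : IsPGroup 2 (Cfsg.Agent.H101.SzGeo.P hF a) := (geo hm hF).two a
        obtain ⟨n, hn⟩ := h3 ⟨x, ha⟩
        have h4 : x ^ 2 ^ n = 1 := by simpa using congrArg Subtype.val hn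
        have h5 : orderOf x ∣ 2 ^ n := orderOf_dvd_of_pow_eq_one h4
        have h6 : orderOf x ∣ 2 := hx.dvd_of_dvd_pow h5
        rw [(Nat.prime_dvd_prime_iff_eq hx Nat.prime_two).1 h6] at hxodd
        exact absurd hxodd (by decide)
      · obtain ⟨j, hj⟩ := mem_set_iff.1 hUk
        have hU : IsTor U j := ⟨hUc, hj⟩
        have hCx : centralizer ({x} : Set (Cfsg.Sz F m)) = U := hUz x hxU hx1
        have h3 : normalizer (zpowers x : Set (Cfsg.Sz F m)) ≤ normalizer (U : Set (Cfsg.Sz F m)) := by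
          rw [← hCx]
          intro g hg
          rw [mem_normalizer_iff] at hg ⊢
          intro y
          have hgx : ∀ g' ∈ normalizer (zpowers x : Set (Cfsg.Sz F m)), ∀ y' ∈ centralizer ({x} : Set (Cfsg.Sz F m)),
              g' * y' * g'⁻¹ ∈ centralizer ({x} : Set (Cfsg.Sz F m)) := norm_cent
          have hg' : g ∈ normalizer (zpowers x : Set (Cfsg.Sz F m)) := mem_normalizer_iff.2 hg
          refine ⟨fun hy => hgx g hg' y hy, fun hy => ?_⟩
          have h4 := hgx g⁻¹ (inv_mem hg') _ hy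
          have h5 : g⁻¹ * (g * y * g⁻¹) * g⁻¹⁻¹ = y := by group
          rwa [h5] at h4
        have h4 := Subgroup.card_dvd_of_le h3
        rw [card_norm hm hF hU, ← hj, ← hCx] at h4
        exact h4.trans (mul_dvd_mul_right (cT_dvd j) _)

end suz

section ree

open Cfsg.Agent.H947.El

/-- **`²G₂(q)`** -/
theorem false_Ree {S : Type u} [Group S] [Finite S] (h : Lie.IsoRee S) {π : Set ℕ} (h3 : 3 ∉ π) {P : Subgroup S}
    {K B : Subgroup (MulAut S)} (hc : Cfg π P K B) : False := by
  obtain ⟨F, iF, iF', m, hm, hF, ⟨f⟩⟩ := h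
  have hfin := H42.Tw.finite_ree hF
  have hc' := H159.DPi.Cfg.congr f hc
  obtain ⟨P', K', B', hc'⟩ : ∃ (P' : Subgroup ↥(Cfsg.Lie.twistedG2 F (3 ^ m))) (K' B' : Subgroup (MulAut ↥(Cfsg.Lie.twistedG2 F (3 ^ m)))), Cfg π P' K' B' := ⟨_, _, _, hc'⟩
  have hsol := H311.DQ.solv hc'
  have h2' : ¬ 2 ∣ Nat.card P' := fun h2 => hc'.two (hc'.hall.1 2 Nat.prime_two h2)
  have h3' : ¬ 3 ∣ Nat.card P' := fun h2 => h3 (hc'.hall.1 3 Nat.prime_three h2)
  have hbig : ∀ r, r.Prime → r ∣ Nat.card P' → 3 < r := by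
    intro r hr hrP
    have h4 := hr.two_le
    have h5 : r ≠ 2 := by rintro rfl; exact h2' hrP
    have h6 : r ≠ 3 := by rintro rfl; exact h3' hrP
    omega
  obtain ⟨ρ, n⟩ := exists_reeN m hm
  have R := reeF hm hF n
  refine false_of_comm hc' (comm_of P' ?_ ?_)
  · intro r hr hrP E hE
    exact R.cyc r hr (hbig r hr hrP) E hE
  · intro x hxP hx
    have hxb := hbig _ hx (Subgroup.orderOf_dvd_natCard P' hxP)
    have := Fact.mk hx
    have hab := H42.Tw.ree_cent hm hF hxb (x := x) rfl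
    refine ⟨fun a ha b hb => congrArg Subtype.val (hab.is_comm.comm ⟨a, ha⟩ ⟨b, hb⟩), 24, coprime_card hc'.hall ?_, ?_⟩
    · intro r hr h4
      have h5 : r ∣ 8 * 3 := h4
      rcases hr.dvd_mul.1 h5 with h6 | h6
      · have : r ∣ 2 := hr.dvd_of_dvd_pow (n := 3) h6
        rw [(Nat.prime_dvd_prime_iff_eq hr Nat.prime_two).1 this]
        exact hc'.two
      · rw [(Nat.prime_dvd_prime_iff_eq hr Nat.prime_three).1 h6]
        exact h3
    · obtain ⟨A, hAc, hEA, hA⟩ := R.norm _ hx hxb (zpowers x) (Nat.card_zpowers x)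
      have hAC : A ≤ centralizer ({x} : Set _) := by
        intro a ha
        rw [mem_centralizer_singleton_iff]
        have hcm : ∀ u v : A, u * v = v * u := by
          letI := hAc.commGroup
          exact fun u v => mul_comm u v
        exact congrArg Subtype.val (hcm ⟨a, ha⟩ ⟨x, hEA (mem_zpowers x)⟩)
      have hd := Subgroup.card_dvd_of_le hAC
      rcases hA with ⟨-, h4⟩ | ⟨-, h4⟩ | ⟨-, h4⟩
      · rw [h4]; exact mul_dvd_mul (by norm_num) hd
      · rw [h4]; exact mul_dvd_mul (by norm_num) hd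
      · rw [h4]; exact mul_dvd_mul (by norm_num) hd

end ree

end Cfsg.Agent.H363.DQ
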