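import Cfsg.Agent.H311.DQ.Abs
import Cfsg.Agent.H363.DQ.BigFin
import Cfsg.Agent.H56.Exc.RowsE
import Cfsg.Agent.H946.KZ.Rows
import Cfsg.Agent.H946.KZ.Gap

/-!
# S4247: the rows of the exceptional groups, `p ∉ π` (helper363)

* `Tori.sub` : fewer primes;
* `false_of` : the generic row.
-/

set_option autoImplicit false
set_option linter.unusedSectionVars false

namespace Cfsg.Agent.H363.DQ

open Subgroup Cfsg Cfsg.Agent.H988.CPi Cfsg.Agent.H571.RV Cfsg.Agent.H817.DPi Cfsg.Agent.H56.Exc Cfsg.Agent.H311.DQ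
open Cfsg.Agent.H436 (Prim exists_prim)

universe u

theorem tori_sub {G : Type*} [Group G] {p : ℕ} {ι : Type*} {C C' : ι → ℕ → Prop} {m e : ι → ℕ} (h : Tori G p C m e)
    (hC : ∀ i r, C' i r → C i r) (hne : ∀ i, ∃ r, C' i r) : Tori G p C' m e :=
  ⟨fun i r hr => h.big i r (hC i r hr), fun i r hr => h.dvd i r (hC i r hr), hne,
    fun i j s hij hs => h.sep i j s hij (hC j s hs), h.ndvd⟩

theorem dvd_card_of_not_dvd_index' {G : Type*} [Group G] [Finite G] {r : ℕ} (hr : r.Prime) {M : Subgroup G}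
    (h : r ∣ Nat.card G) (h1 : ¬ r ∣ M.index) : r ∣ Nat.card M := by
  rw [← Subgroup.card_mul_index M] at h
  exact (hr.dvd_mul.1 h).resolve_right h1

/-- two classes: the group is not commutative -/
theorem not_comm_of_tori {G : Type u} [Group G] [Finite G] {p : ℕ} {ι : Type*} {C : ι → ℕ → Prop} {m e : ι → ℕ}
    (h : Tori G p C m e) {i j : ι} (hij : i ≠ j) : ¬ IsMulCommutative G := by
  intro hc
  obtain ⟨r, hr⟩ := h.ne i
  obtain ⟨s, hs⟩ := h.ne j
  refine h.not_isSolvable ⊤ hij hr hs (by rw [Subgroup.card_top]; exact h.dvd i r hr)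
    (by rw [Subgroup.card_top]; exact h.dvd j s hs) ?_
  have : Group.IsSolvable G := by
    let _ : CommGroup G := { (inferInstance : Group G) with mul_comm := fun a b => hc.is_comm.comm a b }
    infer_instance
  exact inferInstance

/-- **The generic row.** -/
theorem false_of {π : Set ℕ} {S : Type u} [Group S] [Finite S] [IsSimpleGroup S] (hna : ¬ IsMulCommutative S)
    {P : Subgroup S} {K B : Subgroup (MulAut S)} (hc : Cfg π P K B) (hE : CycFixSolv.{u}) {p : ℕ} {ι : Type*}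
    {C : ι → ℕ → Prop} {m e : ι → ℕ} (h : Tori S p C m e) (hp : p.Prime) (hpπ : p ∉ π)
    {o : ℕ} (ho : (inn S).index = o) (hro : ∀ i r, C i r → ¬ r ∣ o)
    (hall : ∀ M : Subgroup S, (∀ i r, C i r → ¬ r ∣ M.index) → M = ⊤)
    (hfull : ∀ i₀ : ι, (∀ M : Subgroup S, (∀ i r, i ≠ i₀ → C i r → ¬ r ∣ M.index) → M = ⊤) ∨
      ∃ i, i ≠ i₀ ∧ (∀ r, C i r → BT S p r) ∧ e i ≠ 0 ∧
        ∃ N, p ^ N ∣ Nat.card S ∧ e i * o < p ^ N ∧ BigP S p N (e i * o) (C i)) : False := by
  apply tr_ne_top hna hc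
  have ho0 : o ≠ 0 := by
    rintro rfl
    obtain ⟨i⟩ : Nonempty ι := by
      by_contra hι
      have hι' : IsEmpty ι := not_nonempty_iff.1 hι
      have h1 := hall ⊥ (fun i => isEmptyElim i)
      have : Nontrivial S := inferInstance
      exact bot_ne_top h1
    obtain ⟨r, hr⟩ := h.ne i
    exact hro i r hr (dvd_zero r)
  rcases cases hna hc h hp hpπ with h1 | ⟨i₀, h1, -, h2⟩
  · refine hall _ fun i r hr hd => hro i r hr ?_
    rw [← ho]
    simpa using h1 i r hr 1 (by simpa using hd)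
  · have h3 : ∀ i r, i ≠ i₀ → C i r → ¬ r ∣ (tr B).index := by
      intro i r hi hr hd
      apply hro i r hr
      rw [← ho]
      simpa using h1 i r hi hr 1 (by simpa using hd)
    rcases hfull i₀ with h4 | ⟨i, hi, hbt, hei, N, hN, hN', hbig⟩
    · exact h4 _ h3
    · refine bigp hE h hp i (tr B) (fun r hr => ?_) hbt (c := o) (fun k hk => ?_) hei ho0 hN hN' hbig
      · exact dvd_card_of_not_dvd_index' (h.big i r hr).prime (h.dvd i r hr) (h3 i r hi hr)
      · rw [← ho]; exact h2 k hk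

/-- the classes of primes not dividing `f` -/
theorem exists_class {p f i : ℕ} (hp : p.Prime) (hf : 1 ≤ f) (hi : 7 ≤ i) : ∃ r, Prim (p ^ f) i r ∧ ¬ r ∣ f := by
  have h1 : 7 ≤ i * f := by nlinarith
  obtain ⟨r, hr⟩ := exists_prim (q := p) (e := i * f) hp.two_le (by omega) (by omega)
  exact ⟨r, H946.KZ.prim_base hf hr, H946.KZ.zs_not_dvd hp hf (by omega) hr⟩

end Cfsg.Agent.H363.DQ
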