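import Cfsg.Agent.H363.DQ.Gen
import Cfsg.Agent.H325.KZ7.Rows
import Cfsg.Agent.H55.OutGen
import Cfsg.Agent.S2124
import Cfsg.Agent.S2125
import Cfsg.Agent.TitsThree.KExcTab

/-!
# S4247: the rows `E₈(q)`, `E₇(q)`, `p ∉ π` (helper363)

`false_E8`, `false_E7` : `Cfg π P K B → p ∉ π → False`.
-/

set_option autoImplicit false
set_option linter.unusedSectionVars false

namespace Cfsg.Agent.H363.DQ

open Subgroup Cfsg Cfsg.Lie Cfsg.Agent.H988.CPi Cfsg.Agent.H571.RV Cfsg.Agent.H817.DPi Cfsg.Agent.H56.Exc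
open Cfsg.Agent.H311.DQ Cfsg.Agent.H563.KG Cfsg.Agent.OrdDiv Cfsg.Agent.H325.IsoExc
open Cfsg.Agent.H436 (Prim exists_prim)

/-- a prime of a class is larger than `c` -/
theorem lt_prim {q c r : ℕ} (h : Prim q c r) (_ : 1 ≤ c) : c < r := by
  have h1 := H56.Exc.prim_mod h
  have h2 := h.prime.two_le
  have := Nat.le_of_dvd (by omega) h1
  omega

theorem index_inn {S : Type*} [Group S] : (inn S).index = Nat.card (Out S) :=
  H55.OutGen.card_out_eq_index.symm

/-- class primes are odd, `r ≡ 1` modulo `c` -/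
theorem two_c_lt {q c r : ℕ} (h : Prim q c r) (hc : 3 ≤ c) (ho : c % 2 = 1) : 2 * c < r := by
  have h1 := H56.Exc.prim_mod h
  have h2 := h.odd (by omega)
  have h3 := h.prime.two_le
  obtain ⟨k, hk⟩ := h1
  have h4 : k ≠ 0 := by rintro rfl; omega
  have h5 : k ≠ 1 := by rintro rfl; omega
  have h6 : c * 2 ≤ c * k := Nat.mul_le_mul_left _ (by omega)
  omega

theorem charP_of_card' {F : Type*} [Field F] [Fintype F] {p f : ℕ} (hp : p.Prime) (hF : Fintype.card F = p ^ f) :
    CharP F p := by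
  obtain ⟨r, hr⟩ := CharP.exists F
  have hr0 := (CharP.char_is_prime_or_zero F r)
  rcases hr0 with h | h
  · obtain ⟨n, -, hn⟩ := FiniteField.card F r
    have h1 : r ∣ p ^ f := by rw [← hF, hn]; exact dvd_pow_self r n.pos.ne'
    obtain rfl := (Nat.prime_dvd_prime_iff_eq h hp).1 (h.dvd_of_dvd_pow h1)
    exact hr
  · exfalso
    subst h
    have := CharP.charP_to_charZero F
    exact not_finite F

section E8

variable {F : Type} [Field F] [Fintype F] {p f : ℕ} [CharP F p]

/-- the pair `20, 24`: only primes not dividing `f` are needed -/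
theorem full_E8 (tb : OrderTable.{0}) (hE : CycFixSolv.{0}) (hcf : CF) (hp : p.Prime) (hf : 1 ≤ f)
    (hF : Fintype.card F = p ^ f) (M : Subgroup ↥(chevE8.group F))
    (h : ∀ i, (i = 20 ∨ i = 24) → ∀ r, Prim (p ^ f) i r → ¬ r ∣ f → ¬ r ∣ M.index) : M = ⊤ := by
  rcases Nat.lt_or_ge f 32 with h32 | h32
  · refine K_E8 tb hE hcf M fun e he r hr => ?_
    have he' : e = 20 ∨ e = 24 := by simpa using he
    rw [hF] at hr
    refine h e he' r hr fun hd => ?_
    have h1 := Nat.le_of_dvd hf hd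
    -- `r ≥ 41`
    have h2 := H56.Exc.prim_mod hr
    have h3 := hr.prime
    have h4 := lt_prim hr (by omega)
    rcases he' with rfl | rfl
    · obtain ⟨k, hk⟩ := h2
      have h5 : k = 1 := by omega
      subst h5
      obtain rfl : r = 21 := by omega
      revert h3; norm_num
    · obtain ⟨k, hk⟩ := h2
      have h5 : k = 1 := by omega
      subst h5
      obtain rfl : r = 25 := by omega
      revert h3; norm_num
  · refine H946.KZ.KZ_E8 tb hE hcf hp h32 hF M fun c hc r hr => ?_
    have hc' : c = 20 ∨ c = 24 := by simpa using hc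
    exact h c hc' r (H946.KZ.prim_base hf hr) (H946.KZ.zs_not_dvd hp hf (by omega) hr)

/-- **`E₈(q)`** -/
theorem false_E8 (tb : OrderTable.{0}) (hE : CycFixSolv.{0}) (hcf : CF) {F : Type} [Field F] [Fintype F]
    {p f : ℕ} (hp : p.Prime) (hF : Fintype.card F = p ^ f) {π : Set ℕ} (hpπ : p ∉ π) {P : Subgroup ↥(chevE8.group F)}
    {K B : Subgroup (MulAut ↥(chevE8.group F))} (hc : Cfg π P K B) : False := by
  have := Fact.mk hp
  have hf : 1 ≤ f := by
    rcases Nat.eq_zero_or_pos f with rfl | h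
    · exfalso
      have := Fintype.one_lt_card (α := F)
      rw [hF, pow_zero] at this
      exact lt_irrefl _ this
    · exact h
  have hch : CharP F p := charP_of_card' hp hF
  have hq : 2 ≤ p ^ f := hp.two_le.trans (Nat.le_self_pow (by omega) p)
  have hsim := TitsThree.KExcBase.simpleE8 F
  have ho : (inn ↥(chevE8.group F)).index = f := by rw [index_inn]; exact S2125.result p f hF
  have hN : p ^ (120 * f) ∣ Nat.card ↥(chevE8.group F) := by
    apply pow_dvd_card (D := 1) hp (fun h => hp.one_lt.ne' (Nat.dvd_one.1 h))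
    rw [Nat.cast_one, one_mul, ord_E8 hF, mul_assoc, mul_assoc, mul_assoc, mul_assoc, mul_assoc, mul_assoc, mul_assoc]
  have h7 : ∀ i, 7 ≤ (rows_E8 i).i := by decide
  have hT := tori_sub (C' := fun i r => Prim (p ^ f) (rows_E8 i).i r ∧ ¬ r ∣ f)
    (tori_E8 hF hp (dvd_pow_self p (by omega)) hq) (fun i r h => h.1) fun i => exists_class hp hf (h7 i)
  have hpk : ∀ a : ℕ, 0 < a → a < 64 → ∀ k, p ^ k ∣ a * f → k ≤ 6 * f := by
    intro a ha ha1
    refine pk_le hp (fun h => ?_) (by norm_num) hf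
    have h1 : 2 ^ 7 ≤ p ^ (6 + 1) := Nat.pow_le_pow_left hp.two_le 7
    have := Nat.le_of_dvd ha h
    omega
  have hlt : ∀ a : ℕ, a < 64 → a * f < p ^ (120 * f) := by
    intro a ha
    have h1 : f < p ^ f := Nat.lt_pow_self hp.one_lt
    have h2 : 64 ≤ p ^ (119 * f) := by
      calc 64 = 2 ^ 6 := by norm_num
        _ ≤ p ^ 6 := Nat.pow_le_pow_left hp.two_le 6
        _ ≤ p ^ (119 * f) := Nat.pow_le_pow_right hp.pos (by omega)
    calc a * f < p ^ (119 * f) * p ^ f := Nat.mul_lt_mul'' (by omega) h1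
      _ = p ^ (120 * f) := by rw [← pow_add]; congr 1; omega
  refine false_of (not_comm_of_tori hT (show (0 : Fin 4) ≠ 1 by decide)) hc hE hT hp hpπ ho (fun i r h => h.2) (fun M hM => ?_) fun i₀ => ?_
  · refine full_E8 tb hE hcf hp hf hF M fun i hi r hr hd => ?_
    rcases hi with rfl | rfl
    · exact hM 1 r ⟨hr, hd⟩
    · exact hM 2 r ⟨hr, hd⟩
  · have hpair : i₀ ≠ 1 → i₀ ≠ 2 → ∀ M : Subgroup ↥(chevE8.group F), (∀ i r, i ≠ i₀ →
        (Prim (p ^ f) (rows_E8 i).i r ∧ ¬ r ∣ f) → ¬ r ∣ M.index) → M = ⊤ := by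
      intro h1 h2 M hM
      refine full_E8 tb hE hcf hp hf hF M fun i hi r hr hd => ?_
      rcases hi with rfl | rfl
      · exact hM 1 r h1.symm ⟨hr, hd⟩
      · exact hM 2 r h2.symm ⟨hr, hd⟩
    have hmem : ∀ r, Prim (p ^ f) 20 r ∨ Prim (p ^ f) 24 r → BT ↥(chevE8.group F) p r := by
      rintro r (h | h)
      · exact piso_E8 (Or.inl rfl) (by rw [hF]; exact h)
      · exact piso_E8 (Or.inr rfl) (by rw [hF]; exact h)
    fin_cases i₀
    · exact Or.inl (hpair (by decide) (by decide))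
    · refine Or.inr ⟨2, by decide, fun r hr => hmem r (Or.inr hr.1), by decide, 120 * f, hN, hlt _ (by decide), ?_⟩
      refine bigP_mono (bigPz_E8_24 hcf hp hf hF (hpk _ (by decide) (by decide))) fun r hr => ?_
      rw [mul_comm] at hr
      exact ⟨H946.KZ.prim_base hf hr, H946.KZ.zs_not_dvd hp hf (by norm_num) hr⟩
    · refine Or.inr ⟨1, by decide, fun r hr => hmem r (Or.inl hr.1), by decide, 120 * f, hN, hlt _ (by decide), ?_⟩
      refine bigP_mono (bigPz_E8_20 hcf hp hf hF (hpk _ (by decide) (by decide))) fun r hr => ?_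
      rw [mul_comm] at hr
      exact ⟨H946.KZ.prim_base hf hr, H946.KZ.zs_not_dvd hp hf (by norm_num) hr⟩
    · exact Or.inl (hpair (by decide) (by decide))

end E8

section E7

variable {F : Type} [Field F] [Fintype F] {p f : ℕ} [CharP F p]

theorem full_E7a (tb : OrderTable.{0}) (hE : CycFixSolv.{0}) (hcf : CF) (hp : p.Prime) (hf : 1 ≤ f)
    (hF : Fintype.card F = p ^ f) (M : Subgroup ↥(chevE7.group F))
    (h : ∀ i, (i = 9 ∨ i = 14) → ∀ r, Prim (p ^ f) i r → ¬ r ∣ f → ¬ r ∣ M.index) : M = ⊤ := by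
  rcases Nat.lt_or_ge f 19 with h32 | h32
  · refine K_E7a tb hE hcf M fun e he r hr => ?_
    have he' : e = 9 ∨ e = 14 := by simpa using he
    rw [hF] at hr
    refine h e he' r hr fun hd => ?_
    have h1 := Nat.le_of_dvd hf hd
    rcases he' with rfl | rfl
    · have := two_c_lt hr (by norm_num) (by norm_num)
      omega
    · have h2 := H56.Exc.prim_mod hr
      have h3 := hr.prime
      have h4 := lt_prim hr (by omega)
      obtain ⟨k, hk⟩ := h2
      have h5 : k = 1 := by omega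
      subst h5
      obtain rfl : r = 15 := by omega
      revert h3; norm_num
  · refine H946.KZ.KZ_E7 tb hE hcf hp h32 hF M fun c hc r hr => ?_
    have hc' : c = 9 ∨ c = 14 := by simpa using hc
    exact h c hc' r (H946.KZ.prim_base hf hr) (H946.KZ.zs_not_dvd hp hf (by omega) hr)

theorem full_E7b (tb : OrderTable.{0}) (hE : CycFixSolv.{0}) (hcf : CF) (hp : p.Prime) (hf : 1 ≤ f)
    (hF : Fintype.card F = p ^ f) (M : Subgroup ↥(chevE7.group F))
    (h : ∀ i, (i = 18 ∨ i = 7) → ∀ r, Prim (p ^ f) i r → ¬ r ∣ f → ¬ r ∣ M.index) : M = ⊤ := by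
  rcases Nat.lt_or_ge f 19 with h32 | h32
  · refine K_E7b tb hE hcf M fun e he r hr => ?_
    have he' : e = 18 ∨ e = 7 := by simpa using he
    rw [hF] at hr
    refine h e he' r hr fun hd => ?_
    have h1 := Nat.le_of_dvd hf hd
    rcases he' with rfl | rfl
    · have h4 := lt_prim hr (by omega)
      omega
    · have h2 := H56.Exc.prim_mod hr
      have h3 := hr.prime
      have h4 := two_c_lt hr (by norm_num) (by norm_num)
      obtain ⟨k, hk⟩ := h2
      have h5 : k = 2 := by omega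
      subst h5
      obtain rfl : r = 15 := by omega
      revert h3; norm_num
  · refine H325.KZ7.KZ_E7b tb hE hcf hp h32 hF M fun c hc r hr => ?_
    have hc' : c = 18 ∨ c = 7 := by simpa using hc
    exact h c hc' r (H946.KZ.prim_base hf hr) (H946.KZ.zs_not_dvd hp hf (by omega) hr)

/-- **`E₇(q)`** -/
theorem false_E7 (tb : OrderTable.{0}) (hE : CycFixSolv.{0}) (hcf : CF) {F : Type} [Field F] [Fintype F]
    {p f : ℕ} (hp : p.Prime) (hF : Fintype.card F = p ^ f) {π : Set ℕ} (hpπ : p ∉ π) {P : Subgroup ↥(chevE7.group F)}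
    {K B : Subgroup (MulAut ↥(chevE7.group F))} (hc : Cfg π P K B) : False := by
  have := Fact.mk hp
  have hf : 1 ≤ f := by
    rcases Nat.eq_zero_or_pos f with rfl | h
    · exfalso
      have := Fintype.one_lt_card (α := F)
      rw [hF, pow_zero] at this
      exact lt_irrefl _ this
    · exact h
  have hch : CharP F p := charP_of_card' hp hF
  have hq : 2 ≤ p ^ f := hp.two_le.trans (Nat.le_self_pow (by omega) p)
  have hsim := TitsThree.KExcBase.simpleE7 F
  have ho : (inn ↥(chevE7.group F)).index = Nat.gcd 2 (p ^ f - 1) * f := by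
    rw [index_inn]; exact S2124.result p f hF
  have h7 : ∀ i, 7 ≤ (rows_E7 i).i := by decide
  have hT := tori_sub (C' := fun i r => Prim (p ^ f) (rows_E7 i).i r ∧ ¬ r ∣ f)
    (tori_E7 hF hp (dvd_pow_self p (by omega)) hq) (fun i r h => h.1) fun i => exists_class hp hf (h7 i)
  refine false_of (not_comm_of_tori hT (show (0 : Fin 4) ≠ 1 by decide)) hc hE hT hp hpπ ho (fun i r h hd => ?_) (fun M hM => ?_) fun i₀ => Or.inl ?_
  · rcases h.1.prime.dvd_mul.1 hd with h1 | h1
    · have h2 := Nat.le_of_dvd (by norm_num) (h1.trans (Nat.gcd_dvd_left _ _))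
      have h3 := lt_prim h.1 (by have := h7 i; omega)
      have := h7 i
      omega
    · exact h.2 h1
  · refine full_E7a tb hE hcf hp hf hF M fun i hi r hr hd => ?_
    rcases hi with rfl | rfl
    · exact hM 1 r ⟨hr, hd⟩
    · exact hM 2 r ⟨hr, hd⟩
  · intro M hM
    have ha : i₀ ≠ 1 → i₀ ≠ 2 → M = ⊤ := by
      intro h1 h2
      refine full_E7a tb hE hcf hp hf hF M fun i hi r hr hd => ?_
      rcases hi with rfl | rfl
      · exact hM 1 r h1.symm ⟨hr, hd⟩
      · exact hM 2 r h2.symm ⟨hr, hd⟩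
    have hb : i₀ ≠ 0 → i₀ ≠ 3 → M = ⊤ := by
      intro h1 h2
      refine full_E7b tb hE hcf hp hf hF M fun i hi r hr hd => ?_
      rcases hi with rfl | rfl
      · exact hM 3 r h2.symm ⟨hr, hd⟩
      · exact hM 0 r h1.symm ⟨hr, hd⟩
    clear hM
    fin_cases i₀
    · exact ha (by decide) (by decide)
    · exact hb (by decide) (by decide)
    · exact hb (by decide) (by decide)
    · exact ha (by decide) (by decide)

end E7

end Cfsg.Agent.H363.DQ
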